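import Mathlib
import Groth.Agent.GLinFinLib.Basic
import Groth.Agent.GLinFinLib.Tame
import Groth.Agent.ComodLib.LinRed

/-!
# Invariant closed sets and quotients of comodule algebras
-/

set_option autoImplicit false
set_option synthInstance.maxHeartbeats 400000

universe u

noncomputable section

open TensorProduct HopfRep

namespace GITAffLib

variable {k : Type u} [Field k] {A : Type u} [CommRing A] [HopfAlgebra k A]
  {R : Type u} [CommRing R] [Algebra k R] [Comod k A R] [GLin.IsCoactAlg k A R]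
  {S : Type u} [CommRing S] [Algebra k S] {β : A →ₗ[k] k}

/-- `S → R` has the invariants as image and averages onto it. -/
structure Good (β : A →ₗ[k] k) (ι : S →ₐ[k] R) : Prop where
  inj : Function.Injective ι
  inv : ∀ s, ι s ∈ fixedPts k A R
  proj : ∀ x, ComodLib.reynolds R β x ∈ Set.range ι

variable {ι : S →ₐ[k] R}

theorem Good.range_eq (h : Good β ι) (h1 : β 1 = 1) : Set.range ι = (fixedPts k A R : Set R) :=
  Set.Subset.antisymm (by rintro _ ⟨s, rfl⟩; exact h.inv s) fun x hx => by
    rw [← ComodLib.reynolds_fixed h1 hx]; exact h.proj x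

/-- The retraction. -/
def Good.retr (h : Good β ι) (x : R) : S := (h.proj x).choose

theorem Good.ι_retr (h : Good β ι) (x : R) : ι (h.retr x) = ComodLib.reynolds R β x := (h.proj x).choose_spec

theorem Good.retr_add (h : Good β ι) (x y : R) : h.retr (x + y) = h.retr x + h.retr y :=
  h.inj (by rw [map_add, h.ι_retr, h.ι_retr, h.ι_retr, map_add])

theorem Good.retr_ι (h : Good β ι) (h1 : β 1 = 1) (s : S) : h.retr (ι s) = s :=
  h.inj (by rw [h.ι_retr, ComodLib.reynolds_fixed h1 (h.inv s)])

theorem reynolds_mul_fixed (x : R) {c : R} (hc : c ∈ fixedPts k A R) :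
    ComodLib.reynolds R β (x * c) = ComodLib.reynolds R β x * c :=
  GLinFinLib.reynolds_smul_fixed (M := R) β x hc

theorem Good.retr_mul (h : Good β ι) (x : R) (s : S) : h.retr (x * ι s) = h.retr x * s :=
  h.inj (by rw [map_mul, h.ι_retr, h.ι_retr, reynolds_mul_fixed x (h.inv s)])

/-- An ideal mapped into itself by the averaging operator. -/
def Stable (β : A →ₗ[k] k) (J : Ideal R) : Prop := ∀ x ∈ J, ComodLib.reynolds R β x ∈ J

theorem Good.retr_mem (h : Good β ι) {J : Ideal R} (hJ : Stable β J) {x : R} (hx : x ∈ J) :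
    h.retr x ∈ J.comap ι.toRingHom := by
  show ι (h.retr x) ∈ J
  rw [h.ι_retr]
  exact hJ x hx

theorem stable_iSup {κ : Type*} (J : κ → Ideal R) (hJ : ∀ i, Stable β (J i)) : Stable β (⨆ i, J i) := by
  intro x hx
  induction hx using Submodule.iSup_induction' with
  | mem i x hx => exact le_iSup J i (hJ i x hx)
  | zero => simp
  | add x y _ _ hx hy => rw [map_add]; exact add_mem hx hy

theorem Good.comap_iSup_le (h : Good β ι) (h1 : β 1 = 1) {κ : Type*} (J : κ → Ideal R)
    (hJ : ∀ i, Stable β (J i)) {q : Ideal S} (hq : ∀ i, (J i).comap ι.toRingHom ≤ q) :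
    (⨆ i, J i).comap ι.toRingHom ≤ q := by
  intro s hs
  have key : ∀ x ∈ ⨆ i, J i, h.retr x ∈ q := by
    intro x hx
    induction hx using Submodule.iSup_induction' with
    | mem i x hx => exact hq i (h.retr_mem (hJ i) hx)
    | zero => simpa [h.retr_ι h1 0] using (by rw [← map_zero ι, h.retr_ι h1]; exact q.zero_mem : h.retr (0 : R) ∈ q)
    | add x y _ _ hx hy => rw [h.retr_add]; exact add_mem hx hy
  have := key _ hs
  rwa [show h.retr (ι.toRingHom s) = s from h.retr_ι h1 s] at this

/-- A prime of the invariants above the trace of a stable ideal is the trace of a prime containing it. -/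
theorem Good.exists_prime (h : Good β ι) (h1 : β 1 = 1) {J : Ideal R} (hJ : Stable β J) (q : Ideal S) [q.IsPrime]
    (hq : J.comap ι.toRingHom ≤ q) : ∃ P : Ideal R, P.IsPrime ∧ J ≤ P ∧ P.comap ι.toRingHom = q := by
  have hzero : h.retr 0 = 0 := by rw [← map_zero ι, h.retr_ι h1]
  have key : ∀ x ∈ q.map ι.toRingHom, h.retr x ∈ q := by
    intro x hx
    change x ∈ Submodule.span R (ι.toRingHom '' (q : Set S)) at hx
    suffices ∀ r : R, h.retr (r * x) ∈ q by simpa using this 1
    induction hx using Submodule.span_induction with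
    | mem y hy =>
      obtain ⟨s, hs, rfl⟩ := hy
      intro r
      rw [show r * ι.toRingHom s = r * ι s from rfl, h.retr_mul]
      exact q.mul_mem_left _ hs
    | zero => intro r; rw [mul_zero, hzero]; exact q.zero_mem
    | add y z _ _ hy hz => intro r; rw [mul_add, h.retr_add]; exact add_mem (hy r) (hz r)
    | smul c y _ hy => intro r; rw [smul_eq_mul, ← mul_assoc]; exact hy _
  have hback : ((q.map ι.toRingHom) ⊔ J).comap ι.toRingHom = q := by
    refine le_antisymm (fun s hs => ?_) (Ideal.le_comap_map.trans (Ideal.comap_mono le_sup_left))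
    obtain ⟨y, hy, z, hz, hyz⟩ := Submodule.mem_sup.1 hs
    have e : s = h.retr y + h.retr z := by
      rw [← h.retr_add, hyz]; exact (h.retr_ι h1 s).symm
    rw [e]
    exact add_mem (key y hy) (hq (h.retr_mem hJ hz))
  let f : S →+* R ⧸ J := (Ideal.Quotient.mk J).comp ι.toRingHom
  have hf : (q.map f).comap f = q := by
    rw [← Ideal.map_map, ← Ideal.comap_comap, Ideal.comap_map_of_surjective _ Ideal.Quotient.mk_surjective,
      ← RingHom.ker_eq_comap_bot, Ideal.mk_ker]
    exact hback
  obtain ⟨P, hP, hPq⟩ := (Ideal.comap_map_eq_self_iff_of_isPrime q).1 hf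
  refine ⟨P.comap (Ideal.Quotient.mk J), inferInstance, ?_, hPq⟩
  conv_lhs => rw [← Ideal.mk_ker (I := J)]
  exact Ideal.ker_le_comap _

/-- A set of primes invariant under the action. -/
def InvSet (W : Set (PrimeSpectrum R)) : Prop :=
  ∀ P : PrimeSpectrum (R ⊗[k] A),
    PrimeSpectrum.comap (Algebra.TensorProduct.includeLeft : R →ₐ[k] R ⊗[k] A).toRingHom P ∈ W →
      PrimeSpectrum.comap (GLin.coactAlgHom k A R).toRingHom P ∈ W

/-- The largest stable ideal vanishing on `W`. -/
def stableIdeal (W : Set (PrimeSpectrum R)) : Ideal R :=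
  ((PrimeSpectrum.vanishingIdeal W).map
    (Algebra.TensorProduct.includeLeft : R →ₐ[k] R ⊗[k] A).toRingHom).comap (GLin.coactAlgHom k A R).toRingHom

omit [CommRing S] in
theorem slice_mem_of_mem_map {I : Ideal R} {z : R ⊗[k] A}
    (hz : z ∈ I.map (Algebra.TensorProduct.includeLeft : R →ₐ[k] R ⊗[k] A).toRingHom) (f : A →ₗ[k] k) :
    ComodLib.slice f z ∈ I := by
  change z ∈ Submodule.span (R ⊗[k] A) ((Algebra.TensorProduct.includeLeft : R →ₐ[k] R ⊗[k] A).toRingHom '' (I : Set R)) at hz
  suffices ∀ c : R ⊗[k] A, ComodLib.slice f (c * z) ∈ I by simpa using this 1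
  induction hz using Submodule.span_induction with
  | mem y hy =>
    obtain ⟨i, hi, rfl⟩ := hy
    intro c
    induction c with
    | zero => simp
    | add p q hp hq => rw [add_mul, map_add]; exact add_mem hp hq
    | tmul p q =>
      simp only [AlgHom.toRingHom_eq_coe, RingHom.coe_coe, Algebra.TensorProduct.includeLeft_apply,
        Algebra.TensorProduct.tmul_mul_tmul, mul_one, ComodLib.slice_tmul]
      rw [Algebra.smul_def]
      exact I.mul_mem_left _ (I.mul_mem_left _ hi)
  | zero => simp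
  | add y z _ _ hy hz => intro c; rw [mul_add, map_add]; exact add_mem (hy c) (hz c)
  | smul c y _ hy => intro d; rw [smul_eq_mul, ← mul_assoc]; exact hy _

theorem stableIdeal_le (W : Set (PrimeSpectrum R)) :
    stableIdeal (k := k) (A := A) W ≤ PrimeSpectrum.vanishingIdeal W := fun x hx => by
  have h := slice_mem_of_mem_map hx (CoalgebraStruct.counit (R := k) (A := A))
  rwa [show ComodLib.slice (CoalgebraStruct.counit (R := k) (A := A)) ((GLin.coactAlgHom k A R).toRingHom x) = x from
    ComodLib.slice_counit x] at h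

theorem stable_stableIdeal (hβ : ComodLib.IsInvariant β) (W : Set (PrimeSpectrum R)) :
    Stable β (stableIdeal (k := k) (A := A) W) := by
  intro x hx
  have h : ComodLib.reynolds R β x ∈ PrimeSpectrum.vanishingIdeal W :=
    slice_mem_of_mem_map hx _
  rw [stableIdeal, Ideal.mem_comap]
  simp only [AlgHom.toRingHom_eq_coe, RingHom.coe_coe]
  rw [GLin.coactAlgHom_apply, show Comod.coact (k := k) (A := A) (ComodLib.reynolds R β x) =
    ComodLib.reynolds R β x ⊗ₜ[k] 1 from ComodLib.reynolds_mem hβ x]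
  exact Ideal.mem_map_of_mem _ h

theorem zeroLocus_stableIdeal {W : Set (PrimeSpectrum R)} (hW : IsClosed W) (hi : InvSet (k := k) (A := A) W) :
    PrimeSpectrum.zeroLocus (stableIdeal (k := k) (A := A) W : Set R) = W := by
  have hW' : PrimeSpectrum.zeroLocus (PrimeSpectrum.vanishingIdeal W : Set R) = W := by
    rw [PrimeSpectrum.zeroLocus_vanishingIdeal_eq_closure, hW.closure_eq]
  refine Set.Subset.antisymm (fun P hP => ?_) ?_
  · rw [← hW']
    intro f hf
    have hrad : GLin.coactAlgHom k A R f ∈ ((PrimeSpectrum.vanishingIdeal W).map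
        (Algebra.TensorProduct.includeLeft : R →ₐ[k] R ⊗[k] A).toRingHom).radical := by
      rw [Ideal.radical_eq_sInf, Submodule.mem_sInf]
      rintro Q ⟨hQ, hQp⟩
      have hQW : PrimeSpectrum.comap (Algebra.TensorProduct.includeLeft : R →ₐ[k] R ⊗[k] A).toRingHom
          ⟨Q, hQp⟩ ∈ W := by
        rw [← hW']
        exact fun g hg => hQ (Ideal.mem_map_of_mem _ hg)
      exact (PrimeSpectrum.mem_vanishingIdeal _ f).1 hf _ (hi ⟨Q, hQp⟩ hQW)
    obtain ⟨n, hn⟩ := hrad
    have : f ^ n ∈ stableIdeal (k := k) (A := A) W := by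
      rw [stableIdeal, Ideal.mem_comap, map_pow]
      exact hn
    exact P.isPrime.mem_of_pow_mem n (hP this)
  · exact hW'.symm.subset.trans (PrimeSpectrum.zeroLocus_anti_mono (stableIdeal_le W))

/-- Images of invariant closed sets. -/
theorem Good.isClosed_image (h : Good β ι) (hβ : ComodLib.IsInvariant β) (h1 : β 1 = 1)
    {W : Set (PrimeSpectrum R)} (hW : IsClosed W) (hi : InvSet (k := k) (A := A) W) :
    IsClosed (PrimeSpectrum.comap ι.toRingHom '' W) := by
  have e : PrimeSpectrum.comap ι.toRingHom '' W =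
      PrimeSpectrum.zeroLocus ((stableIdeal (k := k) (A := A) W).comap ι.toRingHom : Set S) := by
    refine Set.Subset.antisymm ?_ fun q hq => ?_
    · rintro _ ⟨P, hP, rfl⟩ s hs
      rw [← zeroLocus_stableIdeal hW hi] at hP
      exact hP hs
    · obtain ⟨P, hP, hJP, hPq⟩ := h.exists_prime h1 (stable_stableIdeal hβ W) q.asIdeal hq
      refine ⟨⟨P, hP⟩, ?_, PrimeSpectrum.ext hPq⟩
      rw [← zeroLocus_stableIdeal hW hi]
      exact hJP
  rw [e]
  exact PrimeSpectrum.isClosed_zeroLocus _

/-- Intersections of invariant closed sets. -/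
theorem Good.image_iInter (h : Good β ι) (hβ : ComodLib.IsInvariant β) (h1 : β 1 = 1) {κ : Type*}
    (W : κ → Set (PrimeSpectrum R)) (hW : ∀ i, IsClosed (W i)) (hi : ∀ i, InvSet (k := k) (A := A) (W i)) :
    PrimeSpectrum.comap ι.toRingHom '' (⋂ i, W i) = ⋂ i, PrimeSpectrum.comap ι.toRingHom '' W i := by
  refine Set.Subset.antisymm (Set.image_iInter_subset _ _) fun q hq => ?_
  have hle : ∀ i, (stableIdeal (k := k) (A := A) (W i)).comap ι.toRingHom ≤ q.asIdeal := fun i s hs => by
    obtain ⟨P, hP, rfl⟩ := Set.mem_iInter.1 hq i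
    rw [← zeroLocus_stableIdeal (hW i) (hi i)] at hP
    exact hP hs
  obtain ⟨P, hP, hJP, hPq⟩ := h.exists_prime h1
    (stable_iSup _ fun i => stable_stableIdeal hβ (W i)) q.asIdeal
    (h.comap_iSup_le h1 _ (fun i => stable_stableIdeal hβ (W i)) hle)
  refine ⟨⟨P, hP⟩, Set.mem_iInter.2 fun i => ?_, PrimeSpectrum.ext hPq⟩
  rw [← zeroLocus_stableIdeal (hW i) (hi i)]
  exact (le_iSup (fun i => stableIdeal (k := k) (A := A) (W i)) i).trans hJP

/-- Disjoint invariant closed sets are separated by an invariant. -/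
theorem exists_separating (hβ : ComodLib.IsInvariant β) (h1 : β 1 = 1) {W₁ W₂ : Set (PrimeSpectrum R)}
    (hc₁ : IsClosed W₁) (hc₂ : IsClosed W₂) (hi₁ : InvSet (k := k) (A := A) W₁)
    (hi₂ : InvSet (k := k) (A := A) W₂) (hd : Disjoint W₁ W₂) :
    ∃ f ∈ fixedPts k A R, (∀ P ∈ W₁, f ∈ P.asIdeal) ∧ ∀ P ∈ W₂, 1 - f ∈ P.asIdeal := by
  have htop : stableIdeal (k := k) (A := A) W₁ ⊔ stableIdeal (k := k) (A := A) W₂ = ⊤ := by
    rw [← PrimeSpectrum.zeroLocus_empty_iff_eq_top, PrimeSpectrum.zeroLocus_sup, zeroLocus_stableIdeal hc₁ hi₁,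
      zeroLocus_stableIdeal hc₂ hi₂]
    exact hd.inter_eq
  obtain ⟨y, hy, z, hz, hyz⟩ := Submodule.mem_sup.1 ((Ideal.eq_top_iff_one _).1 htop)
  have h1' : (1 : R) ∈ fixedPts k A R := GLin.IsCoactAlg.coact_one (k := k) (A := A)
  refine ⟨ComodLib.reynolds R β y, ComodLib.reynolds_mem hβ y, fun P hP => ?_, fun P hP => ?_⟩
  · exact (PrimeSpectrum.mem_vanishingIdeal _ _).1 (stableIdeal_le W₁ (stable_stableIdeal hβ W₁ y hy)) P hP
  · have e : 1 - ComodLib.reynolds R β y = ComodLib.reynolds R β z := by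
      rw [sub_eq_iff_eq_add', ← map_add, hyz, ComodLib.reynolds_fixed h1 h1']
    rw [e]
    exact (PrimeSpectrum.mem_vanishingIdeal _ _).1 (stableIdeal_le W₂ (stable_stableIdeal hβ W₂ z hz)) P hP

/-- Invariants of a Noetherian ring are Noetherian. -/
theorem Good.isNoetherianRing (h : Good β ι) (h1 : β 1 = 1) [IsNoetherianRing R] : IsNoetherianRing S := by
  let F : Ideal S → Ideal R := fun J => J.map ι.toRingHom
  have hback : ∀ J : Ideal S, (F J).comap ι.toRingHom = J := by
    intro J
    refine le_antisymm (fun s hs => ?_) Ideal.le_comap_map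
    suffices ∀ r : R, h.retr (r * ι s) ∈ J by
      have := this 1
      rwa [one_mul, h.retr_ι h1] at this
    have hs' : ι.toRingHom s ∈ Submodule.span R (ι.toRingHom '' (J : Set S)) := hs
    change ∀ r : R, h.retr (r * ι.toRingHom s) ∈ J
    generalize ι.toRingHom s = x at hs' ⊢
    induction hs' using Submodule.span_induction with
    | mem y hy =>
      obtain ⟨t, ht, rfl⟩ := hy
      intro r
      rw [show r * ι.toRingHom t = r * ι t from rfl, h.retr_mul]
      exact J.mul_mem_left _ ht
    | zero => intro r; rw [mul_zero, ← map_zero ι, h.retr_ι h1]; exact J.zero_mem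
    | add y z _ _ hy hz => intro r; rw [mul_add, h.retr_add]; exact add_mem (hy r) (hz r)
    | smul c y _ hy => intro r; rw [smul_eq_mul, ← mul_assoc]; exact hy _
  have hF : StrictMono F := Monotone.strictMono_of_injective (fun _ _ hh => Ideal.map_mono hh)
    (Function.LeftInverse.injective (g := fun J : Ideal R => J.comap ι.toRingHom) hback)
  exact isNoetherianRing_iff.2 (isNoetherian_iff'.2 hF.wellFoundedGT)

omit [Comod k A R] [GLin.IsCoactAlg k A R] in
/-- Base change. -/
theorem Good.baseChange [Comod k A R] [GLin.IsCoactAlg k A R] {ι : S →ₐ[k] R} (h : Good β ι) (h1 : β 1 = 1)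
    {S' : Type u} [CommRing S'] [Algebra k S'] {R' : Type u} [CommRing R'] [Algebra k R'] [Comod k A R']
    [GLin.IsCoactAlg k A R'] (g : S →ₐ[k] S') (π : R →ₐ[k] R') (ι' : S' →ₐ[k] R')
    (hp : CategoryTheory.IsPushout (CommRingCat.ofHom ι.toRingHom) (CommRingCat.ofHom g.toRingHom)
      (CommRingCat.ofHom π.toRingHom) (CommRingCat.ofHom ι'.toRingHom))
    (hπ : Hoch.IsComodHom A π.toLinearMap) (hinv : ∀ s, ι' s ∈ fixedPts k A R') : Good β ι' := by
  letI : Algebra S R := ι.toRingHom.toAlgebra
  letI : Algebra S S' := g.toRingHom.toAlgebra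
  letI : Algebra R R' := π.toRingHom.toAlgebra
  letI : Algebra S' R' := ι'.toRingHom.toAlgebra
  letI : Algebra S R' := (π.toRingHom.comp ι.toRingHom).toAlgebra
  haveI : IsScalarTower S R R' := IsScalarTower.of_algebraMap_eq fun _ => rfl
  have hsq : ∀ s, π (ι s) = ι' (g s) := fun s =>
    congrArg (fun f : CommRingCat.of S ⟶ CommRingCat.of R' => f.hom s) hp.w
  haveI : IsScalarTower S S' R' := IsScalarTower.of_algebraMap_eq fun s => hsq s
  haveI hP : Algebra.IsPushout S R S' R' := CommRingCat.isPushout_iff_isPushout.mp hp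
  let e := Algebra.IsPushout.equiv S R S' R'
  have he : ∀ r s, e (r ⊗ₜ[S] s) = π r * ι' s := fun r s => Algebra.IsPushout.equiv_tmul ..
  let r₁ : R →ₗ[S] S :=
    { toFun := h.retr
      map_add' := h.retr_add
      map_smul' := fun c x => by
        rw [Algebra.smul_def, RingHom.id_apply, smul_eq_mul, mul_comm c, mul_comm (algebraMap S R c)]
        exact h.retr_mul x c }
  let ψ : R ⊗[S] S' →ₗ[S] S' := (TensorProduct.lid S S').toLinearMap ∘ₗ r₁.rTensor S'
  have hψ : ∀ r s, ψ (r ⊗ₜ[S] s) = g (h.retr r) * s := fun r s => rfl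
  refine ⟨fun s t hst => ?_, hinv, fun x => ?_⟩
  · have hone : ∀ c, e ((1 : R) ⊗ₜ[S] c) = ι' c := fun c => by rw [he, map_one, one_mul]
    have hr1 : h.retr 1 = 1 := by rw [← map_one ι, h.retr_ι h1]
    have := congrArg (fun y => ψ (e.symm y)) hst
    rw [← hone s, ← hone t] at this
    simpa [hψ, hr1] using this
  · obtain ⟨z, rfl⟩ := e.surjective x
    induction z with
    | zero => exact ⟨0, by simp⟩
    | add p q hp hq =>
      obtain ⟨a, ha⟩ := hp
      obtain ⟨b, hb⟩ := hq
      exact ⟨a + b, by rw [map_add, map_add, map_add, ha, hb]⟩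
    | tmul r s =>
      refine ⟨g (h.retr r) * s, ?_⟩
      rw [he, reynolds_mul_fixed _ (hinv s), map_mul, ← hsq, h.ι_retr]
      exact congrArg (· * ι' s) (ComodLib.reynolds_natural β hπ r)

/-- The inclusion of the invariants. -/
theorem good_invariants (hβ : ComodLib.IsInvariant β) : Good β (GLin.invariants k A R).val :=
  ⟨Subtype.val_injective, fun s => s.2, fun x => ⟨⟨_, ComodLib.reynolds_mem hβ x⟩, rfl⟩⟩

end GITAffLib
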