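import Groth.Agent.GITAffLib.Action
import Groth.Agent.GITAffLib.Core
import Mathlib

/-!
# Good affine quotients at the level of schemes
-/

set_option autoImplicit false
set_option backward.isDefEq.respectTransparency false
set_option synthInstance.maxHeartbeats 400000
set_option maxHeartbeats 1000000

universe u

noncomputable section

open CategoryTheory MonoidalCategory CartesianMonoidalCategory AlgebraicGeometry TensorProduct CoactBr
open scoped MonObj

namespace GITAffLib

variable {k : Type u} [Field k] {A : Type u} [CommRing A] [HopfAlgebra k A]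

section Eval

variable {R R' : Type u} [CommRing R] [Algebra k R] [CommRing R'] [Algebra k R']
  {X Y : Over (Spec (CommRingCat.of k))}

instance isAffine_sp : IsAffine (sp k R).left := inferInstanceAs (IsAffine (Spec (CommRingCat.of R)))

/-- The ring map of a morphism out of an affine scheme. -/
def ev (f : sp k R ⟶ X) : Γ(X.left, ⊤) →+* R :=
  ((Scheme.ΓSpecIso (CommRingCat.of R)).hom.hom).comp f.left.appTop.hom

theorem ev_comp (f : sp k R ⟶ X) (g : X ⟶ Y) (x : Γ(Y.left, ⊤)) : ev (f ≫ g) x = ev f (g.left.appTop x) := by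
  simp only [ev, Over.comp_left, Scheme.Hom.comp_appTop, CommRingCat.hom_comp, RingHom.comp_apply]
  rfl

theorem ev_pt (φ : R →ₐ[k] R') (f : sp k R ⟶ X) (x : Γ(X.left, ⊤)) : ev (pt φ ≫ f) x = φ (ev f x) := by
  rw [ev_comp]
  exact congrArg (fun m : Γ(Spec (CommRingCat.of R), ⊤) ⟶ CommRingCat.of R' => m (f.left.appTop x))
    (Scheme.ΓSpecIso_naturality (CommRingCat.ofHom φ.toRingHom))

theorem ev_bijective (f : sp k R ⟶ X) [IsIso f] : Function.Bijective (ev f) := by
  haveI : IsIso f.left := inferInstanceAs (IsIso ((Over.forget _).map f))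
  haveI : IsIso f.left.appTop := inferInstance
  exact Function.Bijective.comp (g := (Scheme.ΓSpecIso (CommRingCat.of R)).hom)
    ((ConcreteCategory.isIso_iff_bijective _).mp inferInstance)
    ((ConcreteCategory.isIso_iff_bijective f.left.appTop).mp inferInstance)

theorem mem_zeroLocus_iff (v : sp k R ≅ X) (f : Γ(X.left, ⊤)) (P : PrimeSpectrum R) :
    v.hom.left P ∈ X.left.zeroLocus (U := ⊤) {f} ↔ ev v.hom f ∈ P.asIdeal := by
  rw [Scheme.mem_zeroLocus_iff]
  simp only [Set.mem_singleton_iff, forall_eq]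
  show ¬ P ∈ v.hom.left ⁻¹ᵁ X.left.basicOpen f ↔ _
  rw [Scheme.preimage_basicOpen]
  show ¬ (P : Spec (CommRingCat.of R)) ∈ (Spec (CommRingCat.of R)).basicOpen _ ↔ _
  rw [basicOpen_eq_of_affine']
  exact not_not

/-- An affine scheme over `k` as a spectrum. -/
theorem exists_iso_sp (X : Over (Spec (CommRingCat.of k))) [IsAffine X.left] :
    ∃ (R : Type u) (_ : CommRing R) (_ : Algebra k R), Nonempty (sp k R ≅ X) := by
  let φ : CommRingCat.of k ⟶ Γ(X.left, ⊤) := (Scheme.ΓSpecIso (CommRingCat.of k)).inv ≫ X.hom.appTop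
  letI : Algebra k Γ(X.left, ⊤) := φ.hom.toAlgebra
  refine ⟨Γ(X.left, ⊤), inferInstance, inferInstance, ⟨Over.isoMk X.left.isoSpec.symm ?_⟩⟩
  show X.left.isoSpec.inv ≫ X.hom = Spec.map φ
  rw [Iso.inv_comp_eq]
  simp only [φ, Spec.map_comp, Scheme.isoSpec, asIso_hom]
  rw [← Scheme.toSpecΓ_naturality_assoc, toSpecΓ_SpecMap_ΓSpecIso_inv, Category.comp_id]

end Eval

variable {G X Y : Over (Spec (CommRingCat.of k))} [GrpObj G] (w : sp k A ⟶ G) [IsMonHom w] [IsIso w]
  {β : A →ₗ[k] k} (a : AlgGrp.Action G X) (φ : X ⟶ Y)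

/-- A morphism of affine schemes which is `Spec` of the inclusion of invariants, with averaging. -/
def IsGood (β : A →ₗ[k] k) : Prop :=
  ∃ (R S : Type u) (_ : CommRing R) (_ : Algebra k R) (_ : CommRing S) (_ : Algebra k S)
    (v : sp k R ≅ X) (vY : sp k S ≅ Y) (j : S →ₐ[k] R),
    v.hom ≫ φ = pt j ≫ vY.hom ∧ (letI := comod w v a; Good β j)

/-- What a good quotient satisfies. -/
structure Props : Prop where
  inj : Function.Injective φ.left.appTop
  range : Set.range φ.left.appTop = {f : Γ(X.left, ⊤) | a.act.left.appTop f = (snd G X).left.appTop f}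
  closed : ∀ W : Set X.left, IsClosed W → (∀ p, (snd G X).left p ∈ W → a.act.left p ∈ W) →
    IsClosed (φ.left '' W)
  inter : ∀ (J : Type u) (W : J → Set X.left), (∀ i, IsClosed (W i)) →
    (∀ i p, (snd G X).left p ∈ W i → a.act.left p ∈ W i) → φ.left '' (⋂ i, W i) = ⋂ i, φ.left '' W i

variable {a φ}

theorem invariant_iff {R : Type u} [CommRing R] [Algebra k R] (v : sp k R ≅ X) (a : AlgGrp.Action G X)
    (f : Γ(X.left, ⊤)) : a.act.left.appTop f = (snd G X).left.appTop f ↔
      rho w v a (ev v.hom f) = ev v.hom f ⊗ₜ[k] (1 : A) := by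
  have h1 : ev (coord w v) (a.act.left.appTop f) = rho w v a (ev v.hom f) := by
    rw [← ev_comp, ← pt_rho, ev_pt]
  have h2 : ev (coord w v) ((snd G X).left.appTop f) = ev v.hom f ⊗ₜ[k] (1 : A) := by
    rw [← ev_comp, coord, lift_snd, ev_pt]
    rfl
  rw [← h1, ← h2]
  exact ⟨congrArg _, fun h => (ev_bijective _).1 h⟩

theorem invSet {R : Type u} [CommRing R] [Algebra k R] (v : sp k R ≅ X) (a : AlgGrp.Action G X) {W : Set X.left}
    (hi : ∀ p, (snd G X).left p ∈ W → a.act.left p ∈ W) :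
    letI := comod w v a
    letI := isCoactAlg w v a
    InvSet (k := k) (A := A) (v.hom.left ⁻¹' W : Set (PrimeSpectrum R)) := by
  intro P hP
  have h1 : (snd G X).left ((coord w v).left P) = v.hom.left (PrimeSpectrum.comap
      (Algebra.TensorProduct.includeLeft : R →ₐ[k] R ⊗[k] A).toRingHom P) := by
    rw [← Scheme.Hom.comp_apply, ← Over.comp_left, coord, lift_snd]
    rfl
  have h2 : a.act.left ((coord w v).left P) = v.hom.left (PrimeSpectrum.comap (rho w v a).toRingHom P) := by
    rw [← Scheme.Hom.comp_apply, ← Over.comp_left, ← pt_rho]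
    rfl
  have := hi ((coord w v).left P) (by rw [h1]; exact hP)
  rw [h2] at this
  exact this

theorem IsGood.props (hβ : ComodLib.IsInvariant β) (h1 : β 1 = 1) (h : IsGood w a φ β) : Props a φ := by
  obtain ⟨R, S, _, _, _, _, v, vY, j, hc, hG⟩ := h
  letI := comod w v a
  letI := isCoactAlg w v a
  have hev : ∀ s, ev v.hom (φ.left.appTop s) = j (ev vY.hom s) := fun s => by rw [← ev_comp, hc, ev_pt]
  let eX : PrimeSpectrum R ≃ₜ X.left := Scheme.homeoOfIso ((Over.forget _).mapIso v)
  let eY : PrimeSpectrum S ≃ₜ Y.left := Scheme.homeoOfIso ((Over.forget _).mapIso vY)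
  have hb : ∀ P : PrimeSpectrum R, φ.left (eX P) = eY (PrimeSpectrum.comap j.toRingHom P) := fun P => by
    show φ.left (v.hom.left P) = vY.hom.left _
    rw [← Scheme.Hom.comp_apply, ← Over.comp_left, hc]
    rfl
  have himg : ∀ W : Set X.left, φ.left '' W = eY '' (PrimeSpectrum.comap j.toRingHom '' (eX ⁻¹' W)) := fun W => by
    conv_lhs => rw [← eX.image_preimage W]
    simp only [Set.image_image, hb]
  constructor
  · intro s t e
    refine (ev_bijective vY.hom).1 (hG.inj ?_)
    rw [← hev, ← hev, e]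
  · ext f
    rw [Set.mem_setOf_eq, invariant_iff w v a f]
    constructor
    · rintro ⟨s, rfl⟩
      rw [hev]
      exact hG.inv _
    · intro hf
      obtain ⟨s, hs⟩ : ev v.hom f ∈ Set.range j := by
        rw [hG.range_eq h1]; exact hf
      obtain ⟨t, rfl⟩ := (ev_bijective vY.hom).2 s
      exact ⟨t, (ev_bijective v.hom).1 ((hev t).trans hs)⟩
  · intro W hW hi
    rw [himg, eY.isClosed_image]
    exact hG.isClosed_image hβ h1 (hW.preimage eX.continuous) (invSet w v a hi)
  · intro J W hW hi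
    simp only [himg, Set.preimage_iInter]
    rw [hG.image_iInter hβ h1 (fun i => eX ⁻¹' W i) (fun i => (hW i).preimage eX.continuous)
      (fun i => invSet w v a (hi i)), Set.image_iInter eY.bijective]

include w in
/-- Invariant disjoint closed sets are separated. -/
theorem exists_separating' (hβ : ComodLib.IsInvariant β) (h1 : β 1 = 1) [IsAffine X.left] (a : AlgGrp.Action G X)
    {W₁ W₂ : Set X.left} (hc₁ : IsClosed W₁) (hc₂ : IsClosed W₂)
    (hi₁ : ∀ p, (snd G X).left p ∈ W₁ → a.act.left p ∈ W₁) (hi₂ : ∀ p, (snd G X).left p ∈ W₂ → a.act.left p ∈ W₂)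
    (hd : Disjoint W₁ W₂) : ∃ f : Γ(X.left, ⊤), a.act.left.appTop f = (snd G X).left.appTop f ∧
      W₁ ⊆ X.left.zeroLocus (U := ⊤) {f} ∧ W₂ ⊆ X.left.zeroLocus (U := ⊤) {1 - f} := by
  obtain ⟨R, _, _, ⟨v⟩⟩ := exists_iso_sp X
  letI := comod w v a
  letI := isCoactAlg w v a
  let eX : PrimeSpectrum R ≃ₜ X.left := Scheme.homeoOfIso ((Over.forget _).mapIso v)
  obtain ⟨r, hr, hr₁, hr₂⟩ := exists_separating hβ h1 (W₁ := eX ⁻¹' W₁) (W₂ := eX ⁻¹' W₂)
    (hc₁.preimage eX.continuous) (hc₂.preimage eX.continuous) (invSet w v a hi₁) (invSet w v a hi₂)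
    (hd.preimage eX)
  obtain ⟨f, rfl⟩ := (ev_bijective v.hom).2 r
  refine ⟨f, (invariant_iff w v a f).2 hr, fun x hx => ?_, fun x hx => ?_⟩ <;>
    obtain ⟨P, rfl⟩ := eX.surjective x
  · exact (mem_zeroLocus_iff v f P).2 (hr₁ P hx)
  · refine (mem_zeroLocus_iff v (1 - f) P).2 ?_
    rw [map_sub, map_one]
    exact hr₂ P hx

/-- Goodness is stable under affine base change. -/
theorem IsGood.baseChange (h1 : β 1 = 1) (h : IsGood w a φ β) {X' T : Over (Spec (CommRingCat.of k))}
    [IsAffine T.left] {pr : X' ⟶ X} {φ' : X' ⟶ T} {g : T ⟶ Y} (sq : IsPullback pr φ' φ g)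
    (a' : AlgGrp.Action G X') (he : a'.act ≫ pr = (G ◁ pr) ≫ a.act) (hi : GIT.IsInvariant a' φ') :
    IsGood w a' φ' β := by
  obtain ⟨R, S, _, _, _, _, v, vY, j, hc, hG⟩ := h
  haveI : IsIso v.inv.left := inferInstanceAs (IsIso ((Over.forget _).map v.inv))
  haveI : IsIso vY.inv.left := inferInstanceAs (IsIso ((Over.forget _).map vY.inv))
  haveI : IsAffine X.left := IsAffine.of_isIso v.inv.left
  haveI : IsAffine Y.left := IsAffine.of_isIso vY.inv.left
  have sqs : IsPullback pr.left φ'.left φ.left g.left := sq.map (Over.forget _)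
  haveI : IsAffine X'.left := IsAffine.of_isIso sqs.isoPullback.hom
  obtain ⟨R', _, _, ⟨v'⟩⟩ := exists_iso_sp X'
  obtain ⟨S', _, _, ⟨vT⟩⟩ := exists_iso_sp T
  obtain ⟨π, hπ'⟩ := Groth.Agent.DiagRep.exists_pt (v'.hom ≫ pr ≫ v.inv)
  obtain ⟨g₀, hg'⟩ := Groth.Agent.DiagRep.exists_pt (vT.hom ≫ g ≫ vY.inv)
  obtain ⟨j', hj'⟩ := Groth.Agent.DiagRep.exists_pt (v'.hom ≫ φ' ≫ vT.inv)
  have hπ : v'.hom ≫ pr = pt π ≫ v.hom := by rw [← hπ']; simp
  have hg : vT.hom ≫ g = pt g₀ ≫ vY.hom := by rw [← hg']; simp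
  have hj : v'.hom ≫ φ' = pt j' ≫ vT.hom := by rw [← hj']; simp
  refine ⟨R', S', ‹_›, ‹_›, ‹_›, ‹_›, v', vT, j', hj, ?_⟩
  letI := comod w v a
  letI := isCoactAlg w v a
  letI := comod w v' a'
  letI := isCoactAlg w v' a'
  let F := Over.forget (Spec (CommRingCat.of k))
  have sq2 : IsPullback (pt π).left (pt j').left (pt j).left (pt g₀).left :=
    sqs.of_iso (F.mapIso v').symm (F.mapIso v).symm (F.mapIso vT).symm (F.mapIso vY).symm
      (by show pr.left ≫ v.inv.left = v'.inv.left ≫ (pt π).left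
          rw [← hπ', Over.comp_left, Over.comp_left, ← Over.comp_left_assoc, Iso.inv_hom_id, Over.id_left,
            Category.id_comp])
      (by show φ'.left ≫ vT.inv.left = v'.inv.left ≫ (pt j').left
          rw [← hj', Over.comp_left, Over.comp_left, ← Over.comp_left_assoc, Iso.inv_hom_id, Over.id_left,
            Category.id_comp])
      (by show φ.left ≫ vY.inv.left = v.inv.left ≫ (pt j).left
          rw [← Over.comp_left, ← Over.comp_left]
          exact congrArg CommaMorphism.left ((Iso.comp_inv_eq _).2 (by rw [Category.assoc, ← hc, Iso.inv_hom_id_assoc])))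
      (by show g.left ≫ vY.inv.left = vT.inv.left ≫ (pt g₀).left
          rw [← hg', Over.comp_left, Over.comp_left, ← Over.comp_left_assoc, Iso.inv_hom_id, Over.id_left,
            Category.id_comp])
  have sq3 : IsPullback (CommRingCat.ofHom π.toRingHom).op (CommRingCat.ofHom j'.toRingHom).op
      (CommRingCat.ofHom j.toRingHom).op (CommRingCat.ofHom g₀.toRingHom).op :=
    IsPullback.of_map_of_faithful Scheme.Spec sq2
  have heq := rho_equivariant w v a v' a' pr π hπ he
  refine hG.baseChange h1 g₀ π j' sq3.unop.flip (LinearMap.ext fun r => ?_) fun s => ?_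
  · refine (AlgHom.congr_fun heq r).trans ?_
    show _ = π.toLinearMap.rTensor A (rho w v a r)
    rw [AlgHom.comp_apply]
    generalize rho w v a r = z
    induction z with
    | zero => simp
    | add p q hp hq => simp only [map_add, hp, hq]
    | tmul p q => simp
  · have h' := (act_comp_eq_iff w v' a' φ').1 hi
    rw [hj, ← Category.assoc, ← Category.assoc, ← pt_comp, ← pt_comp, cancel_mono] at h'
    exact AlgHom.congr_fun (pt_injective h') s

/-- The quotient by the invariants. -/
theorem exists_isGood (hβ : ComodLib.IsInvariant β) [IsAffine X.left] (a : AlgGrp.Action G X) :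
    ∃ (Y : Over (Spec (CommRingCat.of k))) (φ : X ⟶ Y), IsAffine Y.left ∧ GIT.IsInvariant a φ ∧
      IsGood w a φ β := by
  obtain ⟨R, _, _, ⟨v⟩⟩ := exists_iso_sp X
  letI := comod w v a
  letI := isCoactAlg w v a
  let C : Type u := ↥(GLin.invariants k A R)
  let ι₀ : C →ₐ[k] R := (GLin.invariants k A R).val
  have hG : Good β ι₀ := good_invariants hβ
  refine ⟨sp k C, v.inv ≫ pt ι₀, isAffine_sp, ?_,
    ⟨R, C, inferInstance, inferInstance, inferInstance, inferInstance, v, Iso.refl _, ι₀, ?_, hG⟩⟩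
  · refine (act_comp_eq_iff w v a _).2 ?_
    rw [Iso.hom_inv_id_assoc, ← pt_comp, ← pt_comp]
    exact congrArg pt (AlgHom.ext fun s => hG.inv s)
  · rw [Iso.hom_inv_id_assoc, Iso.refl_hom, Category.comp_id]

end GITAffLib
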