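import Groth.Agent.GITAffLib.Global
import Groth.Agent.GLinFinLib.Algebra
import Groth.Agent.RedCharZeroLib.Scheme
import Groth.Agent.DeligneKillLib.Affine

/-!
# Reductive groups in characteristic zero: setup for affine GIT
-/

set_option autoImplicit false
set_option backward.isDefEq.respectTransparency false
set_option synthInstance.maxHeartbeats 400000
set_option maxHeartbeats 1000000

universe u

noncomputable section

open CategoryTheory MonoidalCategory CartesianMonoidalCategory AlgebraicGeometry TensorProduct CoactBr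
open scoped MonObj

namespace GITAffLib

/-- Reductivity is invariant under isomorphisms of group schemes. -/
theorem isReductive_of_iso {S : Scheme.{u}} {G G' : Over S} [GrpObj G] [GrpObj G'] (e : G ≅ G')
    [IsMonHom e.hom] (h : Red.IsReductive G) : Red.IsReductive G' := by
  obtain ⟨ha, hs, hf⟩ := h
  haveI : IsIso e.inv.left := (Over.forget _).map_isIso e.inv
  have e1 : G'.hom = e.inv.left ≫ G.hom := (Over.w e.inv).symm
  haveI := ha
  haveI := hs
  refine ⟨by rw [e1]; infer_instance, by rw [e1]; infer_instance, fun s => ?_⟩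
  haveI : IsMonHom ((Over.pullback (Red.geomPt s)).mapIso e).hom :=
    inferInstanceAs (IsMonHom ((Over.pullback (Red.geomPt s)).map e.hom))
  exact RedCharZeroLib.isReductiveOver_of_iso ((Over.pullback (Red.geomPt s)).mapIso e) (hf s)

/-- A reductive group over a field of characteristic zero as `Spec` of a Hopf algebra with an invariant functional. -/
theorem exists_setup {k : Type u} [Field k] [CharZero k] (G : Over (Spec (CommRingCat.of k))) [GrpObj G]
    (hG : Red.IsReductive G) :
    ∃ (A : Type u) (_ : CommRing A) (_ : HopfAlgebra k A) (w : sp k A ⟶ G) (_ : IsMonHom w) (_ : IsIso w)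
      (β : A →ₗ[k] k), ComodLib.IsInvariant β ∧ β 1 = 1 ∧ HopfRep.IsLinearlyReductive k A := by
  haveI := hG.1
  haveI : IsAffine G.left := isAffine_of_isAffineHom G.hom
  obtain ⟨A, _, _, v, hv, hv'⟩ := DeligneKillLib.exists_sp G
  haveI : IsMonHom v.hom := hv
  haveI : IsMonHom v.symm.hom := hv'
  have hlr := RedCharZeroLib.isLinearlyReductive_of_isReductive (isReductive_of_iso v.symm hG)
  obtain ⟨β, hβ, h1⟩ := ComodLib.exists_invariant_of_isLinearlyReductive hlr
  exact ⟨A, _, _, v.hom, hv, inferInstance, β, hβ, h1, hlr⟩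

variable {k : Type u} [Field k] {A : Type u} [CommRing A] [HopfAlgebra k A]
  {G X Y : Over (Spec (CommRingCat.of k))} [GrpObj G] {w : sp k A ⟶ G} [IsMonHom w] [IsIso w]
  {β : A →ₗ[k] k} {a : AlgGrp.Action G X} {φ : X ⟶ Y}

theorem sp_hom_eq {R : Type u} [CommRing R] [Algebra k R] (v : sp k R ≅ X) :
    v.hom.left ≫ X.hom = Spec.map (CommRingCat.ofHom (algebraMap k R)) := Over.w v.hom

theorem isNoetherian_of_isGood (h1 : β 1 = 1) (h : IsGood w a φ β) (hX : IsNoetherian X.left) :
    IsNoetherian Y.left := by
  obtain ⟨R, S, _, _, _, _, v, vY, j, hc, hG⟩ := h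
  let eX : Spec (CommRingCat.of R) ≅ X.left := (Over.forget _).mapIso v
  let eY : Spec (CommRingCat.of S) ≅ Y.left := (Over.forget _).mapIso vY
  letI := comod w v a
  letI := isCoactAlg w v a
  haveI : IsNoetherianRing R := by
    haveI := hX
    haveI : IsLocallyNoetherian (Spec (CommRingCat.of R)) := isLocallyNoetherian_of_isOpenImmersion eX.hom
    exact (isLocallyNoetherian_Spec (R := CommRingCat.of R)).1 inferInstance
  haveI : IsNoetherianRing S := hG.isNoetherianRing h1
  haveI : IsLocallyNoetherian Y.left := isLocallyNoetherian_of_isOpenImmersion eY.inv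
  haveI : CompactSpace Y.left := eY.hom.surjective.compactSpace eY.hom.continuous
  exact {}

theorem locallyOfFiniteType_of_isGood (h1 : β 1 = 1) (hlr : HopfRep.IsLinearlyReductive k A)
    (h : IsGood w a φ β) (hX : LocallyOfFiniteType X.hom) : LocallyOfFiniteType Y.hom := by
  obtain ⟨R, S, _, _, _, _, v, vY, j, hc, hG⟩ := h
  haveI : IsIso v.hom.left := (Over.forget _).map_isIso v.hom
  haveI : IsIso vY.inv.left := (Over.forget _).map_isIso vY.inv
  haveI := hX
  haveI hR : Algebra.FiniteType k R := by
    have h2 : LocallyOfFiniteType (Spec.map (CommRingCat.ofHom (algebraMap k R))) := by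
      rw [← sp_hom_eq v]; infer_instance
    exact RingHom.finiteType_algebraMap.1 ((HasRingHomProperty.Spec_iff (P := @LocallyOfFiniteType)).1 h2)
  letI := comod w v a
  letI := isCoactAlg w v a
  letI : HopfRep.Comod k A k := HopfRep.Comod.trivial k A k
  haveI : GLin.IsCoactAlg k A k := ⟨Algebra.TensorProduct.one_def.symm, fun f g => by
    show (f * g) ⊗ₜ[k] (1 : A) = (f ⊗ₜ[k] (1 : A)) * (g ⊗ₜ[k] (1 : A))
    rw [Algebra.TensorProduct.tmul_mul_tmul, one_mul]⟩
  have hAC : Hoch.IsComodHom A (IsScalarTower.toAlgHom k k R).toLinearMap := by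
    refine LinearMap.ext fun c => ?_
    show rho w v a (algebraMap k R c) = algebraMap k R c ⊗ₜ[k] (1 : A)
    rw [AlgHom.commutes, Algebra.TensorProduct.algebraMap_apply]
  obtain ⟨s, -, hs⟩ := GLinFinLib.exists_finset_invariants_le_adjoin hlr R hAC
  have hrange : j.range = Algebra.adjoin k (s : Set R) := by
    have e1 : j.range = GLin.invariants k A R := SetLike.coe_injective (by
      rw [AlgHom.coe_range, hG.range_eq h1]; rfl)
    rw [e1, hs]
    refine le_antisymm (Algebra.adjoin_le (Set.union_subset ?_ Algebra.subset_adjoin))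
      (Algebra.adjoin_mono Set.subset_union_right)
    rintro _ ⟨c, -, rfl⟩
    exact Subalgebra.algebraMap_mem _ c
  haveI : Algebra.FiniteType k j.range := by
    rw [hrange]
    exact ((Algebra.adjoin k (s : Set R)).fg_iff_finiteType).1 (Subalgebra.fg_adjoin_finset s)
  haveI : Algebra.FiniteType k S :=
    Algebra.FiniteType.equiv ‹Algebra.FiniteType k j.range› (AlgEquiv.ofInjective j hG.inj).symm
  have h3 : LocallyOfFiniteType (Spec.map (CommRingCat.ofHom (algebraMap k S))) :=
    (HasRingHomProperty.Spec_iff (P := @LocallyOfFiniteType)).2 (RingHom.finiteType_algebraMap.2 inferInstance)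
  rw [← Over.w vY.inv]
  haveI : LocallyOfFiniteType (sp k S).hom := h3
  infer_instance

end GITAffLib
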