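import Groth.Prelude.Def_W4bk4git07Quot
import Groth.Prelude.Def_CoactBr
import Groth.Agent.DiagRepLib.Scheme
import Mathlib

/-!
# The coaction attached to an action of an affine group on an affine scheme
-/

set_option autoImplicit false
set_option backward.isDefEq.respectTransparency false
set_option synthInstance.maxHeartbeats 400000

universe u

noncomputable section

open CategoryTheory MonoidalCategory CartesianMonoidalCategory AlgebraicGeometry TensorProduct Opposite
open scoped MonObj

namespace GITAffLib

local instance (k : Type u) [Field k] : (algSpec (CommRingCat.of k)).Braided := CoactBr.braidedAlgSpecOf k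

section ActLemmas

variable {C : Type*} [Category C] [CartesianMonoidalCategory C]

variable {S : Scheme.{u}} {G X : Over S} [GrpObj G] (a : AlgGrp.Action G X) {T : Over S}

theorem lift_one_act (x : T ⟶ X) : lift (1 : T ⟶ G) x ≫ a.act = x := by
  have e : lift (1 : T ⟶ G) x = lift (toUnit T) x ≫ (η[G] ▷ X) := by
    rw [lift_whiskerRight, Hom.one_def]
  rw [e, Category.assoc, a.one_act, lift_leftUnitor_hom]

theorem lift_mul_act (g h : T ⟶ G) (x : T ⟶ X) :
    lift (g * h) x ≫ a.act = lift g (lift h x ≫ a.act) ≫ a.act := by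
  have e : lift (g * h) x = lift (lift g h) x ≫ (μ[G] ▷ X) := by
    rw [lift_whiskerRight, Hom.mul_def]
  rw [e, Category.assoc, a.mul_act, lift_lift_associator_hom_assoc, lift_whiskerLeft_assoc]

end ActLemmas

open CoactBr

variable {k : Type u} [Field k] {A : Type u} [CommRing A] [HopfAlgebra k A]
  {G X : Over (Spec (CommRingCat.of k))} [GrpObj G] (w : sp k A ⟶ G) [IsMonHom w] [IsIso w]
  {R : Type u} [CommRing R] [Algebra k R] (v : sp k R ≅ X) (a : AlgGrp.Action G X)

/-- The coordinates `(g, x)` of `Spec (R ⊗ A)` for the right action. -/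
def coord : sp k (R ⊗[k] A) ⟶ G ⊗ X :=
  lift ((pt (Algebra.TensorProduct.includeRight : A →ₐ[k] R ⊗[k] A) ≫ w)⁻¹)
    (pt (Algebra.TensorProduct.includeLeft : R →ₐ[k] R ⊗[k] A) ≫ v.hom)

theorem isIso_lift_pt :
    IsIso (lift (pt (Algebra.TensorProduct.includeLeft : R →ₐ[k] R ⊗[k] A))
      (pt (Algebra.TensorProduct.includeRight : A →ₐ[k] R ⊗[k] A))) := by
  let e := Functor.Monoidal.μIso (algSpec (CommRingCat.of k)) (op (CommAlgCat.of k R)) (op (CommAlgCat.of k A))
  have h' : lift (pt (Algebra.TensorProduct.includeLeft : R →ₐ[k] R ⊗[k] A))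
      (pt (Algebra.TensorProduct.includeRight : A →ₐ[k] R ⊗[k] A)) ≫ e.hom = 𝟙 (sp k (R ⊗[k] A)) := by
    refine (lift_pt_pt _ _).trans ?_
    rw [← pt_id]
    congr 1
    ext <;> simp
  refine ⟨⟨e.hom, h', ?_⟩⟩
  exact (cancel_mono e.hom).1 (((Category.assoc _ _ _).trans (congrArg (e.hom ≫ ·) h')).trans
    ((Category.comp_id _).trans (Category.id_comp _).symm))

instance isIso_coord : IsIso (coord w v) := by
  haveI := isIso_lift_pt (k := k) (A := A) (R := R)
  have e : coord w v = lift (pt (Algebra.TensorProduct.includeLeft : R →ₐ[k] R ⊗[k] A))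
      (pt (Algebra.TensorProduct.includeRight : A →ₐ[k] R ⊗[k] A)) ≫ (v.hom ⊗ₘ w) ≫ (β_ X G).hom ≫ (ι[G] ▷ X) := by
    rw [lift_map_assoc, lift_braiding_hom_assoc, lift_whiskerRight, ← Hom.inv_def]
    rfl
  rw [e]
  infer_instance

/-- The coaction. -/
def rho : R →ₐ[k] R ⊗[k] A :=
  (Groth.Agent.DiagRep.exists_pt (coord w v ≫ a.act ≫ v.inv)).choose

theorem pt_rho : pt (rho w v a) ≫ v.hom = coord w v ≫ a.act := by
  have e : coord w v ≫ a.act ≫ v.inv = pt (rho w v a) :=
    (Groth.Agent.DiagRep.exists_pt (coord w v ≫ a.act ≫ v.inv)).choose_spec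
  rw [← e, Category.assoc,
    Category.assoc, v.inv_hom_id, Category.comp_id]

theorem comp_coord {K : Type u} [CommRing K] [Algebra k K] (x : R →ₐ[k] K) (g : A →ₐ[k] K) :
    pt (Algebra.TensorProduct.lift x g fun _ _ => .all _ _) ≫ coord w v =
      lift ((pt g ≫ w)⁻¹) (pt x ≫ v.hom) := by
  rw [coord, comp_lift, GrpObj.comp_inv, ← Category.assoc, ← Category.assoc, ← pt_comp, ← pt_comp]
  congr 4
  · ext; simp
  · ext; simp

/-- A point moved by the inverse of a group point. -/
theorem lift_act {K : Type u} [CommRing K] [Algebra k K] (x : R →ₐ[k] K) (g : A →ₐ[k] K) :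
    lift ((pt g ≫ w)⁻¹) (pt x ≫ v.hom) ≫ a.act =
      pt ((Algebra.TensorProduct.lift x g fun _ _ => .all _ _).comp (rho w v a)) ≫ v.hom := by
  rw [pt_comp, Category.assoc, pt_rho, ← Category.assoc, comp_coord]

theorem rho_counit :
    (Algebra.TensorProduct.lift (AlgHom.id k R) ((Algebra.ofId k R).comp (Bialgebra.counitAlgHom k A))
      fun _ _ => .all _ _).comp (rho w v a) = AlgHom.id k R := by
  apply pt_injective
  rw [← cancel_mono v.hom, ← lift_act, ← one_eq_pt, MonObj.one_comp, inv_one, lift_one_act]

theorem rho_comul :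
    (Algebra.TensorProduct.lift
        ((Algebra.TensorProduct.lift (Algebra.TensorProduct.includeLeft : R →ₐ[k] R ⊗[k] (A ⊗[k] A))
          ((Algebra.TensorProduct.includeRight : A ⊗[k] A →ₐ[k] R ⊗[k] (A ⊗[k] A)).comp
            Algebra.TensorProduct.includeLeft) fun _ _ => .all _ _).comp (rho w v a))
        ((Algebra.TensorProduct.includeRight : A ⊗[k] A →ₐ[k] R ⊗[k] (A ⊗[k] A)).comp
          Algebra.TensorProduct.includeRight) fun _ _ => .all _ _).comp (rho w v a) =
      (Algebra.TensorProduct.map (AlgHom.id k R) (Bialgebra.comulAlgHom k A)).comp (rho w v a) := by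
  have e : Algebra.TensorProduct.map (AlgHom.id k R) (Bialgebra.comulAlgHom k A) =
      Algebra.TensorProduct.lift (Algebra.TensorProduct.includeLeft : R →ₐ[k] R ⊗[k] (A ⊗[k] A))
        ((Algebra.TensorProduct.lift
          ((Algebra.TensorProduct.includeRight : A ⊗[k] A →ₐ[k] R ⊗[k] (A ⊗[k] A)).comp
            Algebra.TensorProduct.includeLeft)
          ((Algebra.TensorProduct.includeRight : A ⊗[k] A →ₐ[k] R ⊗[k] (A ⊗[k] A)).comp
            Algebra.TensorProduct.includeRight) fun _ _ => .all _ _).comp (Bialgebra.comulAlgHom k A))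
        fun _ _ => .all _ _ := by
    refine Algebra.TensorProduct.ext' fun r c => ?_
    simp only [Algebra.TensorProduct.map_tmul, Algebra.TensorProduct.lift_tmul, AlgHom.comp_apply, AlgHom.id_apply,
      Algebra.TensorProduct.includeLeft_apply]
    generalize (Bialgebra.comulAlgHom k A) c = z
    induction z with
    | zero => simp
    | add p q hp hq => simp only [map_add, TensorProduct.tmul_add, mul_add, ← hp, ← hq]
    | tmul p q => simp
  rw [e]
  apply pt_injective
  rw [← cancel_mono v.hom, ← lift_act, ← lift_act, ← lift_act, ← pt_mul_pt, MonObj.mul_comp, mul_inv_rev,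
    lift_mul_act]

/-- The comodule structure. -/
@[reducible] def comod : HopfRep.Comod k A R where
  coact := (rho w v a).toLinearMap
  counit_comp := by
    refine LinearMap.ext fun r => ?_
    have h := AlgHom.congr_fun (rho_counit w v a) r
    have key : ∀ z : R ⊗[k] A, (CoalgebraStruct.counit (R := k) (A := A)).lTensor R z =
        (Algebra.TensorProduct.lift (AlgHom.id k R) ((Algebra.ofId k R).comp (Bialgebra.counitAlgHom k A))
          fun _ _ => .all _ _) z ⊗ₜ[k] (1 : k) := fun z => by
      induction z with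
      | zero => simp
      | add p q hp hq => simp only [map_add, hp, hq, TensorProduct.add_tmul]
      | tmul p q =>
        simp only [LinearMap.lTensor_tmul, Algebra.TensorProduct.lift_tmul, AlgHom.id_apply, AlgHom.comp_apply,
          Algebra.ofId_apply, Bialgebra.counitAlgHom_apply]
        rw [mul_comm, ← Algebra.smul_def, TensorProduct.smul_tmul, smul_eq_mul, mul_one]
    show (CoalgebraStruct.counit (R := k) (A := A)).lTensor R (rho w v a r) = r ⊗ₜ[k] (1 : k)
    rw [key]
    exact congrArg (· ⊗ₜ[k] (1 : k)) h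
  coassoc := by
    refine LinearMap.ext fun r => ?_
    have h := AlgHom.congr_fun (rho_comul w v a) r
    show TensorProduct.assoc k R A A ((rho w v a).toLinearMap.rTensor A (rho w v a r)) =
      (CoalgebraStruct.comul (R := k) (A := A)).lTensor R (rho w v a r)
    simp only [AlgHom.comp_apply] at h
    have k1 : ∀ z : R ⊗[k] A, (CoalgebraStruct.comul (R := k) (A := A)).lTensor R z =
        Algebra.TensorProduct.map (AlgHom.id k R) (Bialgebra.comulAlgHom k A) z := fun z => by
      induction z with
      | zero => simp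
      | add p q hp hq => simp only [map_add, hp, hq]
      | tmul p q => simp
    have k2 : ∀ z : R ⊗[k] A, TensorProduct.assoc k R A A ((rho w v a).toLinearMap.rTensor A z) =
        (Algebra.TensorProduct.lift
        ((Algebra.TensorProduct.lift (Algebra.TensorProduct.includeLeft : R →ₐ[k] R ⊗[k] (A ⊗[k] A))
          ((Algebra.TensorProduct.includeRight : A ⊗[k] A →ₐ[k] R ⊗[k] (A ⊗[k] A)).comp
            Algebra.TensorProduct.includeLeft) fun _ _ => .all _ _).comp (rho w v a))
        ((Algebra.TensorProduct.includeRight : A ⊗[k] A →ₐ[k] R ⊗[k] (A ⊗[k] A)).comp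
          Algebra.TensorProduct.includeRight) fun _ _ => .all _ _) z := fun z => by
      induction z with
      | zero => simp
      | add p q hp hq => simp only [map_add, hp, hq]
      | tmul p q =>
        simp only [LinearMap.rTensor_tmul, Algebra.TensorProduct.lift_tmul, AlgHom.toLinearMap_apply,
          AlgHom.comp_apply]
        generalize rho w v a p = y
        induction y with
        | zero => simp [TensorProduct.zero_tmul]
        | add c d hc hd => simp only [map_add, TensorProduct.add_tmul, add_mul, hc, hd]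
        | tmul c d => simp
    rw [k1, k2, h]

theorem isCoactAlg : @GLin.IsCoactAlg k _ A _ _ R _ _ (comod w v a) := by
  letI := comod w v a
  exact ⟨map_one (rho w v a), map_mul (rho w v a)⟩

/-- Invariance of a morphism in terms of the coaction. -/
theorem act_comp_eq_iff {Z : Over (Spec (CommRingCat.of k))} (f : X ⟶ Z) :
    a.act ≫ f = snd G X ≫ f ↔ pt (rho w v a) ≫ v.hom ≫ f =
      pt (Algebra.TensorProduct.includeLeft : R →ₐ[k] R ⊗[k] A) ≫ v.hom ≫ f := by
  rw [← Category.assoc (pt (rho w v a)), pt_rho, Category.assoc, ← cancel_epi (coord w v)]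
  simp only [coord, lift_snd_assoc, Category.assoc]

/-- Equivariance in terms of the coactions. -/
theorem rho_equivariant {X' : Over (Spec (CommRingCat.of k))} {R' : Type u} [CommRing R'] [Algebra k R']
    (v' : sp k R' ≅ X') (a' : AlgGrp.Action G X') (pr : X' ⟶ X) (π : R →ₐ[k] R')
    (hπ : v'.hom ≫ pr = pt π ≫ v.hom) (he : a'.act ≫ pr = (G ◁ pr) ≫ a.act) :
    (rho w v' a').comp π = (Algebra.TensorProduct.map π (AlgHom.id k A)).comp (rho w v a) := by
  apply pt_injective
  rw [← cancel_mono v.hom, show Algebra.TensorProduct.map π (AlgHom.id k A) =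
    Algebra.TensorProduct.lift ((Algebra.TensorProduct.includeLeft : R' →ₐ[k] R' ⊗[k] A).comp π)
      (Algebra.TensorProduct.includeRight : A →ₐ[k] R' ⊗[k] A) (fun _ _ => .all _ _) from
    Algebra.TensorProduct.ext' fun x y => by simp, ← lift_act, pt_comp, Category.assoc, ← hπ,
    ← Category.assoc (pt (rho w v' a')), pt_rho, Category.assoc, he, coord, lift_whiskerLeft_assoc,
    pt_comp, Category.assoc, Category.assoc, hπ]

end GITAffLib
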