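import Groth.Agent.GITAffLib.Pres
import Groth.Agent.GITQuotLib.Univ

/-!
# Affine quotients are universal
-/

set_option autoImplicit false
set_option backward.isDefEq.respectTransparency false
set_option synthInstance.maxHeartbeats 400000
set_option maxHeartbeats 1000000

universe u

noncomputable section

open CategoryTheory MonoidalCategory CartesianMonoidalCategory AlgebraicGeometry Topology TopologicalSpace Opposite
open scoped MonObj

namespace GITAffLib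

section InvSection

variable {S : Scheme.{u}} {G X Y : Over S} [GrpObj G] {a : AlgGrp.Action G X} {φ : X ⟶ Y}

theorem isInvSection_map {U V : Y.left.Opens} (hVU : V ≤ U) {f : Γ(X.left, φ.left ⁻¹ᵁ U)}
    (hf : GIT.IsInvSection a φ U f) :
    GIT.IsInvSection a φ V (X.left.presheaf.map (homOfLE (φ.left.preimage_mono hVU)).op f) := by
  unfold GIT.IsInvSection at hf ⊢
  have hle : a.act.left ⁻¹ᵁ (φ.left ⁻¹ᵁ V) ⊓ (snd G X).left ⁻¹ᵁ (φ.left ⁻¹ᵁ V) ≤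
      a.act.left ⁻¹ᵁ (φ.left ⁻¹ᵁ U) ⊓ (snd G X).left ⁻¹ᵁ (φ.left ⁻¹ᵁ U) :=
    inf_le_inf (a.act.left.preimage_mono (φ.left.preimage_mono hVU))
      ((snd G X).left.preimage_mono (φ.left.preimage_mono hVU))
  have := congrArg ((G ⊗ X).left.presheaf.map (homOfLE hle).op) hf
  simp only [← CommRingCat.comp_apply, Scheme.Hom.appLE_map, Scheme.Hom.map_appLE] at this ⊢
  exact this

theorem map_app {U V : Y.left.Opens} (h : V ≤ U) (t : Γ(Y.left, U)) :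
    X.left.presheaf.map (homOfLE (φ.left.preimage_mono h)).op (φ.left.app U t) =
      φ.left.app V (Y.left.presheaf.map (homOfLE h).op t) := by
  rw [← CommRingCat.comp_apply, ← CommRingCat.comp_apply, Scheme.Hom.naturality]
  rfl

/-- Sections descend if they do over a basis of opens. -/
theorem sections_of_basis (hinv : GIT.IsInvariant a φ) (P : Y.left.Opens → Prop)
    (hP : ∀ {U : Y.left.Opens} {y : Y.left}, y ∈ U → ∃ V, P V ∧ y ∈ V ∧ V ≤ U)
    (h : ∀ V : Y.left.Opens, P V → Function.Injective (φ.left.app V) ∧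
      Set.range (φ.left.app V) = {f | GIT.IsInvSection a φ V f}) (U : Y.left.Opens) :
    Function.Injective (φ.left.app U) ∧ Set.range (φ.left.app U) = {f | GIT.IsInvSection a φ U f} := by
  have hinj : ∀ U : Y.left.Opens, Function.Injective (φ.left.app U) := by
    intro U s t e
    let κ := {V : Y.left.Opens // P V ∧ V ≤ U}
    refine TopCat.Sheaf.eq_of_locally_eq' ⟨Y.left.presheaf, Y.left.sheaf.2⟩ (fun V : κ => V.1) U
      (fun V => homOfLE V.2.2) (fun y hy => ?_) s t fun V => ?_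
    · obtain ⟨V, hV, hyV, hVU⟩ := hP hy
      exact Opens.mem_iSup.2 ⟨⟨V, hV, hVU⟩, hyV⟩
    · refine (h V.1 V.2.1).1 ?_
      rw [← map_app, ← map_app, e]
  refine ⟨hinj U, Set.Subset.antisymm ?_ fun f hf => ?_⟩
  · rintro _ ⟨t, rfl⟩
    show GIT.IsInvSection a φ U (φ.left.app U t)
    rw [Scheme.Hom.app_eq_appLE]
    exact GITQuotLib.isInvSection_appLE hinv le_rfl t
  · let κ := {V : Y.left.Opens // P V ∧ V ≤ U}
    have hg : ∀ V : κ, ∃ g, φ.left.app V.1 g = X.left.presheaf.map (homOfLE (φ.left.preimage_mono V.2.2)).op f :=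
      fun V => (h V.1 V.2.1).2.symm.subset (isInvSection_map V.2.2 hf)
    choose g hg using hg
    have hcompat : TopCat.Presheaf.IsCompatible Y.left.presheaf (fun V : κ => V.1) g := by
      intro V W
      refine hinj (V.1 ⊓ W.1) ?_
      have e1 := map_app (φ := φ) (inf_le_left : V.1 ⊓ W.1 ≤ V.1) (g V)
      have e2 := map_app (φ := φ) (inf_le_right : V.1 ⊓ W.1 ≤ W.1) (g W)
      refine e1.symm.trans (Eq.trans ?_ e2)
      rw [hg, hg, ← CommRingCat.comp_apply, ← CommRingCat.comp_apply, ← Functor.map_comp, ← Functor.map_comp]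
      rfl
    have hcov : U ≤ iSup fun V : κ => V.1 := fun y hy => by
      obtain ⟨V, hV, hyV, hVU⟩ := hP hy
      exact Opens.mem_iSup.2 ⟨⟨V, hV, hVU⟩, hyV⟩
    obtain ⟨t, ht, -⟩ := TopCat.Sheaf.existsUnique_gluing' ⟨Y.left.presheaf, Y.left.sheaf.2⟩
      (fun V : κ => V.1) U (fun V => homOfLE V.2.2) hcov g hcompat
    refine ⟨t, ?_⟩
    refine TopCat.Sheaf.eq_of_locally_eq' ⟨X.left.presheaf, X.left.sheaf.2⟩ (fun V : κ => φ.left ⁻¹ᵁ V.1)
      (φ.left ⁻¹ᵁ U) (fun V => homOfLE (φ.left.preimage_mono V.2.2)) (fun x hx => ?_) _ _ fun V => ?_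
    · obtain ⟨V, hV⟩ := Opens.mem_iSup.1 (hcov hx)
      exact Opens.mem_iSup.2 ⟨V, hV⟩
    · rw [map_app V.2.2, ← hg]
      exact congrArg _ (ht V)

/-- Sections descend if they do over affine opens. -/
theorem sections_of_affine (hinv : GIT.IsInvariant a φ)
    (h : ∀ V : Y.left.Opens, IsAffineOpen V → Function.Injective (φ.left.app V) ∧
      Set.range (φ.left.app V) = {f | GIT.IsInvSection a φ V f}) (U : Y.left.Opens) :
    Function.Injective (φ.left.app U) ∧ Set.range (φ.left.app U) = {f | GIT.IsInvSection a φ U f} :=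
  sections_of_basis hinv IsAffineOpen
    (fun hy => let ⟨V, hV, hyV, hVU⟩ := exists_isAffineOpen_mem_and_subset hy; ⟨V, hV, hyV, hVU⟩) h U

end InvSection

section Main

open CoactBr

variable {k : Type u} [Field k] {A : Type u} [CommRing A] [HopfAlgebra k A]
  {G X Y : Over (Spec (CommRingCat.of k))} [GrpObj G] {w : sp k A ⟶ G} [IsMonHom w] [IsIso w]
  {β : A →ₗ[k] k} {a : AlgGrp.Action G X} {φ : X ⟶ Y}

/-- After every base change to an affine scheme, `φ` has the properties of an affine quotient. -/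
def HasProps (a : AlgGrp.Action G X) (φ : X ⟶ Y) : Prop :=
  ∀ ⦃X₁ U' : Over (Spec (CommRingCat.of k))⦄ [IsAffine U'.left] ⦃pr₁ : X₁ ⟶ X⦄ ⦃φ₁ : X₁ ⟶ U'⦄ ⦃g₁ : U' ⟶ Y⦄,
    IsPullback pr₁ φ₁ φ g₁ → ∀ a₁ : AlgGrp.Action G X₁, a₁.act ≫ pr₁ = (G ◁ pr₁) ≫ a.act →
      GIT.IsInvariant a₁ φ₁ → Props a₁ φ₁

theorem IsGood.hasProps (hβ : ComodLib.IsInvariant β) (h1 : β 1 = 1) (h : IsGood w a φ β) : HasProps a φ :=
  fun _ _ _ _ _ _ sq a₁ he hi => (h.baseChange w h1 sq a₁ he hi).props w hβ h1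

theorem criterion' (H : HasProps a φ)
    {X' T : Over (Spec (CommRingCat.of k))} {pr : X' ⟶ X} {φ' : X' ⟶ T} {g : T ⟶ Y}
    (sq : IsPullback pr φ' φ g) (a' : AlgGrp.Action G X') (he : a'.act ≫ pr = (G ◁ pr) ≫ a.act)
    (hi : GIT.IsInvariant a' φ') :
    (GIT.IsCatQuot a' φ' ∧ IsQuotientMap φ'.left) ∧ ∀ U : T.left.Opens,
      Function.Injective (φ'.left.app U) ∧ Set.range (φ'.left.app U) = {f | GIT.IsInvSection a' φ' U f} := by
  have hloc : ∀ (X₁ U' : Over (Spec (CommRingCat.of k))) (pr₁ : X₁ ⟶ X') (φ₁ : X₁ ⟶ U') (g₁ : U' ⟶ T)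
      [IsAffine U'.left], IsPullback pr₁ φ₁ φ' g₁ → ∀ a₁ : AlgGrp.Action G X₁,
      a₁.act ≫ pr₁ = (G ◁ pr₁) ≫ a'.act → GIT.IsInvariant a₁ φ₁ → Props a₁ φ₁ := by
    intro X₁ U' pr₁ φ₁ g₁ _ sq₁ a₁ he₁ hi₁
    refine H (sq₁.paste_horiz sq) a₁ ?_ hi₁
    rw [← Category.assoc, he₁, Category.assoc, he, ← Category.assoc, MonoidalCategory.whiskerLeft_comp]
  have hsec : ∀ U : T.left.Opens, Function.Injective (φ'.left.app U) ∧
      Set.range (φ'.left.app U) = {f | GIT.IsInvSection a' φ' U f} := by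
    refine sections_of_affine hi fun V hV => GITQuotLib.sections_of_restrict hi V ?_
    intro X₁ U' pr₁ φ₁ g₁ hU sq₁ a₁ he₁ hi₁
    haveI : IsAffine U'.left := by rw [hU]; exact hV
    exact ⟨(hloc X₁ U' pr₁ φ₁ g₁ sq₁ a₁ he₁ hi₁).inj, (hloc X₁ U' pr₁ φ₁ g₁ sq₁ a₁ he₁ hi₁).range⟩
  have hres : ∀ V : T.left.affineOpens, ∃ a₁ : AlgGrp.Action G (Over.mk ((φ'.left ⁻¹ᵁ V.1).ι ≫ X'.hom)),
      (∀ W : Set X'.left, (∀ p, (snd G X').left p ∈ W → a'.act.left p ∈ W) →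
        ∀ p : (G ⊗ Over.mk ((φ'.left ⁻¹ᵁ V.1).ι ≫ X'.hom)).left,
          (φ'.left ⁻¹ᵁ V.1).ι ((snd G (Over.mk ((φ'.left ⁻¹ᵁ V.1).ι ≫ X'.hom))).left p) ∈ W →
            (φ'.left ⁻¹ᵁ V.1).ι (a₁.act.left p) ∈ W) ∧
      ∃ φ₁ : Over.mk ((φ'.left ⁻¹ᵁ V.1).ι ≫ X'.hom) ⟶ Over.mk (V.1.ι ≫ T.hom),
        φ₁.left = φ'.left ∣_ V.1 ∧ Props a₁ φ₁ := by
    intro V
    have sq₁ := GITQuotLib.isPullback_restrict φ' V.1
    obtain ⟨a₁, he₁, hi₁⟩ := GITQuotLib.exists_action hi sq₁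
    haveI : IsAffine (Over.mk (V.1.ι ≫ T.hom)).left := V.2
    refine ⟨a₁, fun W hW p hp => ?_, _, rfl, hloc _ _ _ _ _ sq₁ a₁ he₁ hi₁⟩
    let pr₁ : Over.mk ((φ'.left ⁻¹ᵁ V.1).ι ≫ X'.hom) ⟶ X' := Over.homMk (φ'.left ⁻¹ᵁ V.1).ι
    have e1 := congrArg (fun m => m.left p) (whiskerLeft_snd G pr₁)
    have e2 := congrArg (fun m => m.left p) he₁
    simp only [Over.comp_left, Scheme.Hom.comp_apply] at e1 e2
    show (φ'.left ⁻¹ᵁ V.1).ι (a₁.act.left p) ∈ W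
    rw [show (φ'.left ⁻¹ᵁ V.1).ι (a₁.act.left p) = a'.act.left ((G ◁ pr₁).left p) from e2]
    refine hW _ ?_
    rw [e1]
    exact hp
  have himg : ∀ (V : T.left.affineOpens) (W : Set X'.left),
      (Subtype.val ⁻¹' (φ'.left '' W) : Set V.1.toScheme) = (φ'.left ∣_ V.1) '' ((φ'.left ⁻¹ᵁ V.1).ι ⁻¹' W) := by
    intro V W
    have e : ∀ x, (φ'.left (((φ'.left ⁻¹ᵁ V.1).ι x))) = ((φ'.left ∣_ V.1) x).1 := fun x => by
      show _ = V.1.ι ((φ'.left ∣_ V.1) x)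
      rw [← Scheme.Hom.comp_apply, ← Scheme.Hom.comp_apply, morphismRestrict_ι]
    refine Set.ext fun v => ⟨?_, ?_⟩
    · rintro ⟨x, hx, hxv⟩
      have hxV : x ∈ φ'.left ⁻¹ᵁ V.1 := by show φ'.left x ∈ V.1; rw [hxv]; exact v.2
      exact ⟨⟨x, hxV⟩, hx, Subtype.ext ((e ⟨x, hxV⟩).symm.trans hxv)⟩
    · rintro ⟨x, hx, rfl⟩
      exact ⟨_, hx, e x⟩
  have hcl : ∀ W : Set X'.left, IsClosed W → (∀ p, (snd G X').left p ∈ W → a'.act.left p ∈ W) →
      IsClosed (φ'.left '' W) := by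
    intro W hW hWi
    have hc : TopologicalSpace.IsOpenCover (fun V : T.left.affineOpens => V.1) := iSup_affineOpens_eq_top T.left
    refine hc.isClosed_iff_coe_preimage.2 fun V => ?_
    obtain ⟨a₁, hinv₁, φ₁, hφ₁, hP⟩ := hres V
    have := hP.closed _ (hW.preimage (φ'.left ⁻¹ᵁ V.1).ι.continuous) (hinv₁ W hWi)
    rw [hφ₁] at this
    exact (himg V W).symm ▸ this
  have hint : ∀ (J : Type u) (W : J → Set X'.left), (∀ i, IsClosed (W i)) →
      (∀ i p, (snd G X').left p ∈ W i → a'.act.left p ∈ W i) → φ'.left '' (⋂ i, W i) = ⋂ i, φ'.left '' W i := by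
    intro J W hW hWi
    refine Set.Subset.antisymm (Set.image_iInter_subset _ _) fun y hy => ?_
    obtain ⟨V, hV, hyV, -⟩ := exists_isAffineOpen_mem_and_subset (U := (⊤ : T.left.Opens)) (x := y) trivial
    obtain ⟨a₁, hinv₁, φ₁, hφ₁, hP⟩ := hres ⟨V, hV⟩
    have e := hP.inter J (fun i => (φ'.left ⁻¹ᵁ V).ι ⁻¹' W i)
      (fun i => (hW i).preimage (φ'.left ⁻¹ᵁ V).ι.continuous) (fun i => hinv₁ _ (hWi i))
    rw [hφ₁] at e
    have hy' : (⟨y, hyV⟩ : V.toScheme) ∈ (φ'.left ∣_ V) '' (⋂ i, (φ'.left ⁻¹ᵁ V).ι ⁻¹' W i) :=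
      e.symm.subset (Set.mem_iInter.2 fun i => (himg ⟨V, hV⟩ (W i)).subset (Set.mem_iInter.1 hy i))
    obtain ⟨x, hx, hxy⟩ := hy'
    exact (himg ⟨V, hV⟩ (⋂ i, W i)).symm.subset
      ⟨x, Set.mem_iInter.2 fun i => Set.mem_iInter.1 hx i, hxy⟩
  exact ⟨GITQuotLib.isCatQuot hi hsec hcl hint, hsec⟩

theorem criterion (hβ : ComodLib.IsInvariant β) (h1 : β 1 = 1) (h : IsGood w a φ β)
    {X' T : Over (Spec (CommRingCat.of k))} {pr : X' ⟶ X} {φ' : X' ⟶ T} {g : T ⟶ Y}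
    (sq : IsPullback pr φ' φ g) (a' : AlgGrp.Action G X') (he : a'.act ≫ pr = (G ◁ pr) ≫ a.act)
    (hi : GIT.IsInvariant a' φ') :
    (GIT.IsCatQuot a' φ' ∧ IsQuotientMap φ'.left) ∧ ∀ U : T.left.Opens,
      Function.Injective (φ'.left.app U) ∧ Set.range (φ'.left.app U) = {f | GIT.IsInvSection a' φ' U f} :=
  criterion' (h.hasProps hβ h1) sq a' he hi

theorem HasProps.main (H : HasProps a φ) (hinv : GIT.IsInvariant a φ) :
    GIT.IsUnivCatQuot a φ ∧ GIT.IsUnivSubmersive φ.left := by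
  have h0 : IsPullback (𝟙 X) φ φ (𝟙 Y) := IsPullback.of_horiz_isIso ⟨by simp⟩
  refine ⟨⟨(criterion' H h0 a (by simp) hinv).1.1,
    fun X' Y' pr φ' g _ sq a' he hi => (criterion' H sq a' he hi).1.1⟩, ?_⟩
  intro X'' Y'' i₁ i₂ f' hsq
  let T : Over (Spec (CommRingCat.of k)) := Over.mk (i₂ ≫ Y.hom)
  let X' : Over (Spec (CommRingCat.of k)) := Over.mk (i₁ ≫ X.hom)
  let pr : X' ⟶ X := Over.homMk i₁
  let g : T ⟶ Y := Over.homMk i₂
  let φ' : X' ⟶ T := Over.homMk f' (by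
    show f' ≫ i₂ ≫ Y.hom = i₁ ≫ X.hom
    rw [← Over.w φ, ← Category.assoc, hsq.w, Category.assoc])
  have sq : IsPullback pr φ' φ g :=
    IsPullback.of_map (Over.forget _) (Over.OverMorphism.ext hsq.w.symm) hsq.flip
  obtain ⟨a', he, hi⟩ := GITQuotLib.exists_action hinv sq
  exact (criterion' H sq a' he hi).1.2

theorem IsGood.main (hβ : ComodLib.IsInvariant β) (h1 : β 1 = 1) (h : IsGood w a φ β)
    (hinv : GIT.IsInvariant a φ) : GIT.IsUnivCatQuot a φ ∧ GIT.IsUnivSubmersive φ.left :=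
  (h.hasProps hβ h1).main hinv

end Main

end GITAffLib
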