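import Groth.Agent.GITAffLib.Global
import Groth.Agent.FinHomLib.Affine

/-!
# Geometric quotients and closed orbits
-/

set_option autoImplicit false
set_option backward.isDefEq.respectTransparency false
set_option synthInstance.maxHeartbeats 400000
set_option maxHeartbeats 1000000

universe u

noncomputable section

open CategoryTheory CategoryTheory.Limits MonoidalCategory CartesianMonoidalCategory AlgebraicGeometry Topology
open scoped MonObj

namespace GITAffLib

section General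

variable {S : Scheme.{u}} {G X Y X' T : Over S} [GrpObj G]

theorem exists_whiskerLeft_preimage {T' : Over S} (g : T' ⟶ T) (p : (G ⊗ T).left) (q : T'.left)
    (h : (snd G T).left p = g.left q) : ∃ z : (G ⊗ T').left, (G ◁ g).left z = p := by
  rw [Over.snd_left] at h
  obtain ⟨z, hz, -⟩ := Scheme.exists_preimage_of_isPullback
    (Groth.Agent.FinHom.isPullback_whiskerLeft G g) p q h
  exact ⟨z, hz⟩

/-- Orbits are invariant. -/
theorem orbit_invariant (a : AlgGrp.Action G X) (s : T ⟶ X) (p : (G ⊗ X).left)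
    (hp : (snd G X).left p ∈ Set.range ((G ◁ s) ≫ a.act).left) :
    a.act.left p ∈ Set.range ((G ◁ s) ≫ a.act).left := by
  obtain ⟨q, hq⟩ := hp
  obtain ⟨z, rfl⟩ := exists_whiskerLeft_preimage ((G ◁ s) ≫ a.act) p q hq.symm
  refine ⟨((α_ G G T).inv ≫ (μ[G] ▷ T)).left z, ?_⟩
  rw [← Scheme.Hom.comp_apply, ← Scheme.Hom.comp_apply, ← Over.comp_left, ← Over.comp_left]
  congr 2
  rw [Category.assoc, ← whisker_exchange_assoc, a.mul_act, MonoidalCategory.whiskerLeft_comp,
    Category.assoc, associator_naturality_right_assoc, Iso.inv_hom_id_assoc]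

theorem injective_of_mono {A B : Scheme.{u}} (f : A ⟶ B) [Mono f] : Function.Injective f := by
  intro x y h
  obtain ⟨p, hp, hq⟩ := Scheme.Pullback.exists_preimage_pullback (f := f) (g := f) x y h
  rw [← hp, ← hq, (cancel_mono f).1 (pullback.condition (f := f) (g := f))]

variable {a : AlgGrp.Action G X} {φ : X ⟶ Y} {pr : X' ⟶ X} {φ' : X' ⟶ T} {g : T ⟶ Y} {a' : AlgGrp.Action G X'}

theorem orbit_comp_lift (he : a'.act ≫ pr = (G ◁ pr) ≫ a.act) (hi : GIT.IsInvariant a' φ') (s : T ⟶ X')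
    (hs : s ≫ φ' = 𝟙 T) : ((G ◁ s) ≫ a'.act) ≫ lift pr φ' = GIT.psi a (s ≫ pr) := by
  refine CartesianMonoidalCategory.hom_ext _ _ ?_ ?_
  · rw [Category.assoc, Category.assoc, lift_fst, GIT.psi, lift_fst, he, MonoidalCategory.whiskerLeft_comp,
      Category.assoc]
  · rw [Category.assoc, Category.assoc, lift_snd, GIT.psi, lift_snd, show a'.act ≫ φ' = snd G X' ≫ φ' from hi,
      whiskerLeft_snd_assoc, hs, Category.comp_id]

theorem mono_lift (sq : IsPullback pr φ' φ g) : Mono (lift pr φ') := by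
  refine ⟨fun u v h => sq.hom_ext ?_ ?_⟩
  · simpa using congrArg (· ≫ fst X T) h
  · simpa using congrArg (· ≫ snd X T) h

theorem isClosed_orbit (sq : IsPullback pr φ' φ g) (he : a'.act ≫ pr = (G ◁ pr) ≫ a.act)
    (hi : GIT.IsInvariant a' φ') (s : T ⟶ X') (hs : s ≫ φ' = 𝟙 T)
    (hcl : IsClosed (Set.range (GIT.psi a (s ≫ pr)).left.base)) :
    IsClosed (Set.range ((G ◁ s) ≫ a'.act).left) := by
  haveI := mono_lift sq
  haveI : Mono (lift pr φ').left := inferInstanceAs (Mono ((Over.forget S).map (lift pr φ')))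
  have e : Set.range (GIT.psi a (s ≫ pr)).left.base =
      (lift pr φ').left '' Set.range ((G ◁ s) ≫ a'.act).left := by
    rw [← orbit_comp_lift he hi s hs, ← Set.range_comp]
    rfl
  rw [e] at hcl
  have := hcl.preimage (lift pr φ').left.continuous
  rwa [Set.preimage_image_eq _ (injective_of_mono _)] at this

theorem orbit_comp (hi : GIT.IsInvariant a' φ') (s : T ⟶ X') (hs : s ≫ φ' = 𝟙 T) :
    ((G ◁ s) ≫ a'.act) ≫ φ' = snd G T := by
  rw [Category.assoc, show a'.act ≫ φ' = snd G X' ≫ φ' from hi, whiskerLeft_snd_assoc, hs, Category.comp_id]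

end General

open CoactBr

variable {k : Type u} [Field k] {A : Type u} [CommRing A] [HopfAlgebra k A]
  {G X Y : Over (Spec (CommRingCat.of k))} [GrpObj G] {w : sp k A ⟶ G} [IsMonHom w] [IsIso w]
  {β : A →ₗ[k] k} {a : AlgGrp.Action G X} {φ : X ⟶ Y}

include w in
/-- The orbits of two points over one point meet. -/
theorem orbits_meet (hβ : ComodLib.IsInvariant β) (h1 : β 1 = 1) {X' T : Over (Spec (CommRingCat.of k))}
    [IsAffine X'.left] {Ω : Type u} [Field Ω] (eT : T.left ≅ Spec (CommRingCat.of Ω)) {a' : AlgGrp.Action G X'}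
    {φ' : X' ⟶ T} (hP : Props a' φ') (hi : GIT.IsInvariant a' φ') (s₁ s₂ : T ⟶ X') (hs₁ : s₁ ≫ φ' = 𝟙 T)
    (hs₂ : s₂ ≫ φ' = 𝟙 T)
    (hc₁ : IsClosed (Set.range ((G ◁ s₁) ≫ a'.act).left)) (hc₂ : IsClosed (Set.range ((G ◁ s₂) ≫ a'.act).left)) :
    ∃ p₁ p₂, ((G ◁ s₁) ≫ a'.act).left p₁ = ((G ◁ s₂) ≫ a'.act).left p₂ := by
  by_contra hne
  simp only [not_exists] at hne
  have hd : Disjoint (Set.range ((G ◁ s₁) ≫ a'.act).left) (Set.range ((G ◁ s₂) ≫ a'.act).left) := by
    rw [Set.disjoint_left]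
    rintro x ⟨p₁, rfl⟩ ⟨p₂, hp₂⟩
    exact hne p₁ p₂ hp₂.symm
  obtain ⟨f, hf, h0, h1'⟩ := exists_separating' w hβ h1 a' hc₁ hc₂ (orbit_invariant a' s₁)
    (orbit_invariant a' s₂) hd
  obtain ⟨c, rfl⟩ : f ∈ Set.range φ'.left.appTop := by rw [hP.range]; exact hf
  obtain ⟨t⟩ : Nonempty T.left := ⟨eT.inv (IsLocalRing.closedPoint Ω)⟩
  have hmem : ∀ (s : T ⟶ X'), s ≫ φ' = 𝟙 T → s.left t ∈ Set.range ((G ◁ s) ≫ a'.act).left := by
    intro s hs
    refine ⟨(lift (1 : T ⟶ G) (𝟙 T)).left t, ?_⟩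
    rw [← Scheme.Hom.comp_apply, ← Over.comp_left, lift_whiskerLeft_assoc, Category.id_comp, lift_one_act]
  have key : ∀ (s : T ⟶ X') (c : Γ(T.left, ⊤)), s ≫ φ' = 𝟙 T →
      s.left t ∈ X'.left.zeroLocus (U := ⊤) {φ'.left.appTop c} → t ∉ T.left.basicOpen c := by
    intro s c hs hz
    rw [Scheme.mem_zeroLocus_iff] at hz
    have hz' : s.left t ∉ X'.left.basicOpen (φ'.left.appTop c) := hz _ rfl
    intro ht
    apply hz'
    show s.left t ∈ X'.left.basicOpen (φ'.left.app ⊤ c)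
    rw [← Scheme.preimage_basicOpen]
    show φ'.left (s.left t) ∈ T.left.basicOpen c
    rw [← Scheme.Hom.comp_apply, ← Over.comp_left, hs]
    exact ht
  haveI : IsAffine T.left := IsAffine.of_isIso eT.hom
  have e1 := key s₁ c hs₁ (h0 (hmem s₁ hs₁))
  have e2 := key s₂ (1 - c) hs₂ (by rw [map_sub, map_one]; exact h1' (hmem s₂ hs₂))
  obtain ⟨c', rfl⟩ : ∃ c', eT.hom.appTop c' = c :=
    ((ConcreteCategory.isIso_iff_bijective eT.hom.appTop).mp inferInstance).2 c
  have hk : ∀ d : Γ(Spec (CommRingCat.of Ω), ⊤), t ∉ T.left.basicOpen (eT.hom.appTop d) → d = 0 := by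
    intro d hd
    have hd' : ¬ eT.hom t ∈ (Spec (CommRingCat.of Ω)).basicOpen d := by
      intro hh
      apply hd
      show t ∈ T.left.basicOpen (eT.hom.app ⊤ d)
      rw [← Scheme.preimage_basicOpen]
      exact hh
    rw [basicOpen_eq_of_affine'] at hd'
    have hx : (Scheme.ΓSpecIso (CommRingCat.of Ω)).hom d ∈ (eT.hom t).asIdeal := Set.notMem_compl_iff.1 hd'
    have hb : (eT.hom t).asIdeal = ⊥ := (Ideal.eq_bot_or_top _).resolve_right (eT.hom t).isPrime.ne_top
    rw [hb] at hx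
    exact ((ConcreteCategory.isIso_iff_bijective (Scheme.ΓSpecIso (CommRingCat.of Ω)).hom).mp inferInstance).1
      ((Ideal.mem_bot.1 hx).trans (map_zero _).symm)
  have h3 := hk c' e1
  subst h3
  have h4 := hk 1 (by rw [map_one]; rwa [map_zero, sub_zero] at e2)
  exact one_ne_zero h4

/-- Closed orbits: the fibres are the orbits. -/
theorem psiY_surjective_of_isClosedAction (hβ : ComodLib.IsInvariant β) (h1 : β 1 = 1) (h : IsGood w a φ β)
    (hinv : GIT.IsInvariant a φ) (hca : GIT.IsClosedAction a) : Function.Surjective (GIT.PsiY a φ hinv) := by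
  intro q
  let P := pullback φ.left φ.left
  let K := AlgebraicClosure (P.residueField q)
  let e : Spec (CommRingCat.of K) ⟶ P :=
    Spec.map (CommRingCat.ofHom (algebraMap (P.residueField q) K)) ≫ P.fromSpecResidueField q
  have heq : ∀ x, e x = q := fun x => by
    rw [Scheme.Hom.comp_apply]; exact Scheme.fromSpecResidueField_apply q _
  let T : Over (Spec (CommRingCat.of k)) := Over.mk (e ≫ pullback.fst φ.left φ.left ≫ X.hom)
  haveI : IsAffine T.left := inferInstanceAs (IsAffine (Spec (CommRingCat.of K)))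
  let x₁ : T ⟶ X := Over.homMk (e ≫ pullback.fst φ.left φ.left) (Category.assoc _ _ _)
  let x₂ : T ⟶ X := Over.homMk (e ≫ pullback.snd φ.left φ.left) (by
    show (e ≫ pullback.snd φ.left φ.left) ≫ X.hom = e ≫ pullback.fst φ.left φ.left ≫ X.hom
    rw [← Over.w φ, pullback.condition_assoc]
    simp only [Category.assoc])
  have hx : x₁ ≫ φ = x₂ ≫ φ := Over.OverMorphism.ext (by
    show (e ≫ _) ≫ φ.left = (e ≫ _) ≫ φ.left
    simp only [e, Category.assoc, pullback.condition])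
  have sq := IsPullback.of_hasPullback φ (x₁ ≫ φ)
  obtain ⟨a', he, hi⟩ := GITQuotLib.exists_action hinv sq
  have hgood' := h.baseChange w h1 sq a' he hi
  haveI : IsAffine (pullback φ (x₁ ≫ φ)).left := by
    obtain ⟨R, -, _, _, -, -, v, -⟩ := hgood'
    haveI : IsIso v.inv.left := inferInstanceAs (IsIso ((Over.forget _).map v.inv))
    exact IsAffine.of_isIso v.inv.left
  let s₁ := sq.lift x₁ (𝟙 T) (Category.id_comp _).symm
  let s₂ := sq.lift x₂ (𝟙 T) (by rw [Category.id_comp, hx])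
  have hs₁ : s₁ ≫ pullback.snd φ (x₁ ≫ φ) = 𝟙 T := sq.lift_snd _ _ _
  have hs₂ : s₂ ≫ pullback.snd φ (x₁ ≫ φ) = 𝟙 T := sq.lift_snd _ _ _
  have hp₁ : s₁ ≫ pullback.fst φ (x₁ ≫ φ) = x₁ := sq.lift_fst _ _ _
  have hp₂ : s₂ ≫ pullback.fst φ (x₁ ≫ φ) = x₂ := sq.lift_fst _ _ _
  have hc₁ := isClosed_orbit sq he hi s₁ hs₁ (by rw [hp₁]; exact hca K T (Iso.refl _) x₁)
  have hc₂ := isClosed_orbit sq he hi s₂ hs₂ (by rw [hp₂]; exact hca K T (Iso.refl _) x₂)
  obtain ⟨p₁, p₂, hp⟩ := orbits_meet (w := w) hβ h1 (Ω := K) (Iso.refl T.left) (hgood'.props w hβ h1) hi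
    s₁ s₂ hs₁ hs₂ hc₁ hc₂
  obtain ⟨z, -, -⟩ := Scheme.Pullback.exists_preimage_pullback (f := ((G ◁ s₁) ≫ a'.act).left)
    (g := ((G ◁ s₂) ≫ a'.act).left) p₁ p₂ hp
  let o₁ := (G ◁ s₁) ≫ a'.act
  let o₂ := (G ◁ s₂) ≫ a'.act
  let W : Over (Spec (CommRingCat.of k)) := Over.mk (pullback.fst o₁.left o₂.left ≫ (G ⊗ T).hom)
  let r₁ : W ⟶ G ⊗ T := Over.homMk (pullback.fst o₁.left o₂.left) rfl
  let r₂ : W ⟶ G ⊗ T := Over.homMk (pullback.snd o₁.left o₂.left) (by
    show pullback.snd o₁.left o₂.left ≫ (G ⊗ T).hom = pullback.fst o₁.left o₂.left ≫ (G ⊗ T).hom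
    exact (congrArg (pullback.snd o₁.left o₂.left ≫ ·) (Over.w o₂).symm).trans
      (((pullback.condition_assoc (f := o₁.left) (g := o₂.left) _).symm).trans
        (congrArg (pullback.fst o₁.left o₂.left ≫ ·) (Over.w o₁))))
  have hr : r₁ ≫ o₁ = r₂ ≫ o₂ := Over.OverMorphism.ext pullback.condition
  have ht : r₁ ≫ snd G T = r₂ ≫ snd G T := by
    have := congrArg (· ≫ pullback.snd φ (x₁ ≫ φ)) hr
    simpa only [o₁, o₂, Category.assoc, orbit_comp hi s₁ hs₁, orbit_comp hi s₂ hs₂,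
      show a'.act ≫ pullback.snd φ (x₁ ≫ φ) = snd G _ ≫ pullback.snd φ (x₁ ≫ φ) from hi,
      whiskerLeft_snd_assoc, hs₁, hs₂, Category.comp_id] using this
  let g₁ := r₁ ≫ fst G T
  let g₂ := r₂ ≫ fst G T
  let t := r₁ ≫ snd G T
  have hg : lift g₁ (t ≫ x₁) ≫ a.act = lift g₂ (t ≫ x₂) ≫ a.act := by
    have e3 : ∀ (r : W ⟶ G ⊗ T) (s : T ⟶ pullback φ (x₁ ≫ φ)) (x : T ⟶ X),
        s ≫ pullback.fst φ (x₁ ≫ φ) = x → r ≫ ((G ◁ s) ≫ a'.act) ≫ pullback.fst φ (x₁ ≫ φ) =
          lift (r ≫ fst G T) ((r ≫ snd G T) ≫ x) ≫ a.act := by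
      intro r s x hx'
      rw [Category.assoc, he, ← MonoidalCategory.whiskerLeft_comp_assoc, hx', ← Category.assoc]
      congr 1
      refine CartesianMonoidalCategory.hom_ext _ _ ?_ ?_ <;> simp
    have h4 : r₁ ≫ o₁ ≫ pullback.fst φ (x₁ ≫ φ) = r₂ ≫ o₂ ≫ pullback.fst φ (x₁ ≫ φ) := by
      rw [← Category.assoc, hr, Category.assoc]
    rw [e3 r₁ s₁ x₁ hp₁, e3 r₂ s₂ x₂ hp₂] at h4
    simp only [g₁, g₂, t]
    rw [h4, ← ht]
  let ξ : W ⟶ G ⊗ X := lift (g₁⁻¹ * g₂) (t ≫ x₂)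
  have hξ : ξ ≫ a.act = t ≫ x₁ := by
    rw [lift_mul_act, ← hg, ← lift_mul_act, inv_mul_cancel, lift_one_act]
  refine ⟨ξ.left z, ?_⟩
  have e4 : ξ.left ≫ GIT.PsiY a φ hinv = t.left ≫ e := by
    refine pullback.hom_ext ?_ ?_
    · rw [Category.assoc, Category.assoc, GIT.PsiY, pullback.lift_fst, ← Over.comp_left, hξ, Over.comp_left]
      rfl
    · rw [Category.assoc, Category.assoc, GIT.PsiY, pullback.lift_snd, ← Over.comp_left, lift_snd, Over.comp_left]
      rfl
  rw [← Scheme.Hom.comp_apply, e4, Scheme.Hom.comp_apply]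
  exact heq _

/-- Geometric quotients by affine targets have closed orbits. -/
theorem isClosedAction_of_isGeomQuot [IsSeparated Y.hom] (h : GIT.IsGeomQuot a φ) : GIT.IsClosedAction a := by
  intro Ω _ _ T eT f
  have sq := IsPullback.of_hasPullback φ (f ≫ φ)
  obtain ⟨a', he, hi⟩ := GITQuotLib.exists_action h.inv sq
  let pr := pullback.fst φ (f ≫ φ)
  let φ' := pullback.snd φ (f ≫ φ)
  let s := sq.lift f (𝟙 T) (Category.id_comp _).symm
  have hs : s ≫ φ' = 𝟙 T := sq.lift_snd _ _ _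
  have hp : s ≫ pr = f := sq.lift_fst _ _ _
  have hsurj := GITQuotLib.psiY_surjective_baseChange h.inv h.orbit sq a' he hi
  have huniv : ∀ z, z ∈ Set.range ((G ◁ s) ≫ a'.act).left := by
    intro z
    let l : (pullback φ (f ≫ φ)).left ⟶ pullback φ'.left φ'.left :=
      pullback.lift (𝟙 _) (φ'.left ≫ s.left) (by
        rw [Category.id_comp, Category.assoc, ← Over.comp_left, hs, Over.id_left, Category.comp_id])
    obtain ⟨p, hp'⟩ := hsurj (l z)
    have h1 : a'.act.left p = z := by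
      have := congrArg (pullback.fst φ'.left φ'.left) hp'
      rw [← Scheme.Hom.comp_apply, ← Scheme.Hom.comp_apply, GIT.PsiY, pullback.lift_fst, pullback.lift_fst] at this
      exact this
    have h2 : (snd G (pullback φ (f ≫ φ))).left p = s.left (φ'.left z) := by
      have := congrArg (pullback.snd φ'.left φ'.left) hp'
      rw [← Scheme.Hom.comp_apply, ← Scheme.Hom.comp_apply, GIT.PsiY, pullback.lift_snd, pullback.lift_snd] at this
      exact this
    obtain ⟨q, rfl⟩ := exists_whiskerLeft_preimage s p _ h2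
    exact ⟨q, h1⟩
  have hrange : Set.range (GIT.psi a f).left.base = Set.range (lift pr φ').left := by
    have e1 := orbit_comp_lift he hi s hs
    rw [hp] at e1
    rw [← e1]
    refine Set.Subset.antisymm ?_ ?_
    · rintro _ ⟨q, rfl⟩
      exact ⟨_, rfl⟩
    · rintro _ ⟨z, rfl⟩
      obtain ⟨q, rfl⟩ := huniv z
      exact ⟨q, rfl⟩
  rw [hrange]
  have sqs : IsPullback pr.left φ'.left φ.left (f ≫ φ).left := sq.map (Over.forget _)
  haveI : IsClosedImmersion (lift pr φ').left := by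
    have e : (lift pr φ').left = sqs.isoPullback.hom ≫ pullback.mapDesc φ.left (f ≫ φ).left Y.hom ≫
        (pullback.congrHom (Over.w φ) (Over.w (f ≫ φ))).hom := by
      apply pullback.hom_ext <;> simp [pullback.mapDesc]
    rw [e]
    infer_instance
  exact (lift pr φ').left.isClosedEmbedding.isClosed_range

end GITAffLib
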