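import Groth.Agent.GITAffLib.Geometric

/-!
# Affine morphisms which are good quotients locally on the target
-/

set_option autoImplicit false
set_option backward.isDefEq.respectTransparency false
set_option synthInstance.maxHeartbeats 400000
set_option maxHeartbeats 1000000
set_option linter.style.haveILetI false

universe u

noncomputable section

open CategoryTheory MonoidalCategory CartesianMonoidalCategory AlgebraicGeometry Topology TopologicalSpace Opposite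
open CoactBr
open scoped MonObj

namespace GITAffLib

variable {k : Type u} [Field k] {A : Type u} [CommRing A] [HopfAlgebra k A]
  {G X Y : Over (Spec (CommRingCat.of k))} [GrpObj G] {w : sp k A ⟶ G} [IsMonHom w] [IsIso w]
  {β : A →ₗ[k] k} {a : AlgGrp.Action G X} {φ : X ⟶ Y}

theorem appLE_top {P Q : Scheme.{u}} (q : P ⟶ Q) (W : P.Opens) (e : W ≤ q ⁻¹ᵁ ⊤) (s : Γ(Q, ⊤)) :
    q.appLE ⊤ W e s = P.presheaf.map (homOfLE (le_top : W ≤ ⊤)).op (q.appTop s) :=
  rfl

/-- An invariant morphism of affine schemes with the invariants as sections is good. -/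
theorem isGood_of_appTop (hβ : ComodLib.IsInvariant β) (h1 : β 1 = 1) [IsAffine X.left] [IsAffine Y.left]
    (hi : GIT.IsInvariant a φ) (hinj : Function.Injective φ.left.appTop)
    (hr : ∀ f, a.act.left.appTop f = (snd G X).left.appTop f → f ∈ Set.range φ.left.appTop) :
    IsGood w a φ β := by
  obtain ⟨R, _, _, ⟨v⟩⟩ := exists_iso_sp X
  obtain ⟨S, _, _, ⟨vY⟩⟩ := exists_iso_sp Y
  obtain ⟨j, hj⟩ := Groth.Agent.DiagRep.exists_pt (v.hom ≫ φ ≫ vY.inv)
  have hc : v.hom ≫ φ = pt j ≫ vY.hom := by rw [← hj]; simp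
  have hev : ∀ s, ev v.hom (φ.left.appTop s) = j (ev vY.hom s) := fun s => by rw [← ev_comp, hc, ev_pt]
  refine ⟨R, S, ‹_›, ‹_›, ‹_›, ‹_›, v, vY, j, hc, ?_⟩
  letI := comod w v a
  letI := isCoactAlg w v a
  refine ⟨fun s t e => ?_, fun s => ?_, fun x => ?_⟩
  · obtain ⟨s, rfl⟩ := (ev_bijective vY.hom).2 s
    obtain ⟨t, rfl⟩ := (ev_bijective vY.hom).2 t
    rw [← hev, ← hev] at e
    exact congrArg _ (hinj ((ev_bijective v.hom).1 e))
  · obtain ⟨s, rfl⟩ := (ev_bijective vY.hom).2 s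
    rw [← hev]
    exact (invariant_iff w v a _).1 (by
      rw [← CommRingCat.comp_apply, ← CommRingCat.comp_apply, ← Scheme.Hom.comp_appTop, ← Scheme.Hom.comp_appTop,
        ← Over.comp_left, ← Over.comp_left, show a.act ≫ φ = snd G X ≫ φ from hi])
  · obtain ⟨f, hf⟩ := (ev_bijective v.hom).2 (ComodLib.reynolds R β x)
    obtain ⟨s, hs⟩ := hr f ((invariant_iff w v a f).2 (by rw [hf]; exact ComodLib.reynolds_mem hβ x))
    exact ⟨ev vY.hom s, by rw [← hev, hs, hf]⟩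

/-- Goodness after every affine base change, for an affine morphism which is good over each member of a cover. -/
theorem isGood_of_cover (hβ : ComodLib.IsInvariant β) (h1 : β 1 = 1) [IsAffineHom φ.left]
    (hinv : GIT.IsInvariant a φ) {κ : Type*} (Yi Xi : κ → Over (Spec (CommRingCat.of k)))
    (g : ∀ i, Yi i ⟶ Y) [∀ i, IsOpenImmersion (g i).left] (hcov : ∀ y : Y.left, ∃ i, y ∈ Set.range (g i).left)
    (pr : ∀ i, Xi i ⟶ X) (φi : ∀ i, Xi i ⟶ Yi i) (sq : ∀ i, IsPullback (pr i) (φi i) φ (g i))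
    (ai : ∀ i, AlgGrp.Action G (Xi i)) (he : ∀ i, (ai i).act ≫ pr i = (G ◁ pr i) ≫ a.act)
    (hgood : ∀ i, IsGood w (ai i) (φi i) β)
    {X₁ U' : Over (Spec (CommRingCat.of k))} [IsAffine U'.left] {pr₁ : X₁ ⟶ X} {φ₁ : X₁ ⟶ U'} {g₁ : U' ⟶ Y}
    (sq₁ : IsPullback pr₁ φ₁ φ g₁) (a₁ : AlgGrp.Action G X₁) (he₁ : a₁.act ≫ pr₁ = (G ◁ pr₁) ≫ a.act)
    (hi₁ : GIT.IsInvariant a₁ φ₁) : IsGood w a₁ φ₁ β := by
  haveI : IsAffineHom φ₁.left := MorphismProperty.of_isPullback (sq₁.map (Over.forget _)) ‹IsAffineHom φ.left›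
  haveI : IsAffine X₁.left := isAffine_of_isAffineHom φ₁.left
  let P : U'.left.Opens → Prop := fun V => IsAffineOpen V ∧ ∃ i, V ≤ g₁.left ⁻¹ᵁ (g i).left.opensRange
  have hP : ∀ {U : U'.left.Opens} {y : U'.left}, y ∈ U → ∃ V, P V ∧ y ∈ V ∧ V ≤ U := by
    intro U y hy
    obtain ⟨i, hi⟩ := hcov (g₁.left y)
    obtain ⟨V, hV, hyV, hVU⟩ := exists_isAffineOpen_mem_and_subset
      (U := U ⊓ g₁.left ⁻¹ᵁ (g i).left.opensRange) (x := y) ⟨hy, hi⟩
    exact ⟨V, ⟨hV, i, fun z hz => (hVU hz).2⟩, hyV, fun z hz => (hVU hz).1⟩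
  have hsec : ∀ V, P V → Function.Injective (φ₁.left.app V) ∧
      Set.range (φ₁.left.app V) = {f | GIT.IsInvSection a₁ φ₁ V f} := by
    rintro V ⟨hV, i, hle⟩
    refine GITQuotLib.sections_of_restrict' hi₁ V ?_
    intro X₂ U₂ pr₂ φ₂ g₂ hU hg₂ sq₂ a₂ he₂ hi₂
    haveI : IsAffine U₂.left := by rw [hU]; exact hV
    have hr : Set.range (g₂ ≫ g₁).left ⊆ Set.range (g i).left := by
      rintro _ ⟨u, rfl⟩
      exact hle (hg₂ ⟨u, rfl⟩)
    let h : U₂ ⟶ Yi i := Over.homMk (IsOpenImmersion.lift (g i).left _ hr) (by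
      rw [← Over.w (g i), IsOpenImmersion.lift_fac_assoc, Over.w (g₂ ≫ g₁)])
    have hh : h ≫ g i = g₂ ≫ g₁ := Over.OverMorphism.ext (IsOpenImmersion.lift_fac _ _ _)
    have tot := sq₂.paste_horiz sq₁
    rw [← hh] at tot
    let l : X₂ ⟶ Xi i := (sq i).lift (pr₂ ≫ pr₁) (φ₂ ≫ h) (by rw [tot.w, Category.assoc])
    have hl : l ≫ pr i = pr₂ ≫ pr₁ := (sq i).lift_fst _ _ _
    have hl' : l ≫ φi i = φ₂ ≫ h := (sq i).lift_snd _ _ _
    rw [← hl] at tot
    have sq₃ : IsPullback l φ₂ (φi i) h := IsPullback.of_right tot hl' (sq i)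
    have hii : GIT.IsInvariant (ai i) (φi i) := by
      haveI : Mono (g i) := (Over.forget _).mono_of_mono_map (inferInstanceAs (Mono (g i).left))
      show (ai i).act ≫ φi i = snd G (Xi i) ≫ φi i
      rw [← cancel_mono (g i), Category.assoc, Category.assoc, ← (sq i).w, reassoc_of% he i,
        show a.act ≫ φ = snd G X ≫ φ from hinv, whiskerLeft_snd_assoc]
    have he₃ : a₂.act ≫ l = (G ◁ l) ≫ (ai i).act := by
      haveI : Mono (pr i) := by
        haveI : Mono (g i) := (Over.forget _).mono_of_mono_map (inferInstanceAs (Mono (g i).left))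
        exact (MorphismProperty.monomorphisms _).of_isPullback (sq i).flip (MorphismProperty.monomorphisms.infer_property (g i))
      rw [← cancel_mono (pr i), Category.assoc, Category.assoc, hl, he i, reassoc_of% he₂, he₁,
        ← MonoidalCategory.whiskerLeft_comp_assoc, ← hl, MonoidalCategory.whiskerLeft_comp_assoc]
    have hp := ((hgood i).baseChange w h1 sq₃ a₂ he₃ hi₂).props w hβ h1
    exact ⟨hp.inj, hp.range⟩
  have htop := sections_of_basis hi₁ P hP hsec ⊤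
  refine isGood_of_appTop hβ h1 hi₁ htop.1 fun f hf => ?_
  have : f ∈ {f | GIT.IsInvSection a₁ φ₁ ⊤ f} := by
    show GIT.IsInvSection a₁ φ₁ ⊤ f
    unfold GIT.IsInvSection
    exact (appLE_top _ _ _ f).trans ((congrArg _ hf).trans (appLE_top _ _ _ f).symm)
  rw [← htop.2] at this
  exact this

theorem hasProps_of_cover (hβ : ComodLib.IsInvariant β) (h1 : β 1 = 1) [IsAffineHom φ.left]
    (hinv : GIT.IsInvariant a φ) {κ : Type*} (Yi Xi : κ → Over (Spec (CommRingCat.of k)))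
    (g : ∀ i, Yi i ⟶ Y) [∀ i, IsOpenImmersion (g i).left] (hcov : ∀ y : Y.left, ∃ i, y ∈ Set.range (g i).left)
    (pr : ∀ i, Xi i ⟶ X) (φi : ∀ i, Xi i ⟶ Yi i) (sq : ∀ i, IsPullback (pr i) (φi i) φ (g i))
    (ai : ∀ i, AlgGrp.Action G (Xi i)) (he : ∀ i, (ai i).act ≫ pr i = (G ◁ pr i) ≫ a.act)
    (hgood : ∀ i, IsGood w (ai i) (φi i) β) : HasProps a φ :=
  fun _ _ _ _ _ _ sq₁ a₁ he₁ hi₁ =>
    (isGood_of_cover hβ h1 hinv Yi Xi g hcov pr φi sq ai he hgood sq₁ a₁ he₁ hi₁).props w hβ h1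

end GITAffLib
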