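import Groth.Agent.GITAffLib.Geometric

/-!
# Orbits in a geometric quotient by a normal subgroup
-/

set_option autoImplicit false
set_option backward.isDefEq.respectTransparency false
set_option synthInstance.maxHeartbeats 400000
set_option maxHeartbeats 1000000

universe u

noncomputable section

open CategoryTheory CategoryTheory.Limits MonoidalCategory CartesianMonoidalCategory AlgebraicGeometry Topology
open scoped MonObj

namespace GITAffLib

variable {S : Scheme.{u}} {H N Q X Y T : Over S} [GrpObj H] [GrpObj N] [GrpObj Q]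

theorem isPullback_whiskerRight (π : X ⟶ Y) (T : Over S) : IsPullback (fst X T) (π ▷ T) π (fst Y T) := by
  refine IsPullback.of_isLimit' ⟨by rw [whiskerRight_fst]⟩ (PullbackCone.IsLimit.mk _
    (fun s => lift s.fst (s.snd ≫ snd Y T)) (fun s => lift_fst _ _) (fun s => ?_) fun s m h1 h2 => ?_)
  · refine CartesianMonoidalCategory.hom_ext _ _ ?_ ?_
    · simp [s.condition]
    · simp
  · refine CartesianMonoidalCategory.hom_ext _ _ ?_ ?_
    · rw [h1, lift_fst]
    · rw [lift_snd, ← h2, Category.assoc, whiskerRight_snd]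

theorem surjective_whiskerRight (π : X ⟶ Y) (hπ : Function.Surjective π.left) (T : Over S) :
    Function.Surjective (π ▷ T).left := by
  haveI : Surjective π.left := ⟨hπ⟩
  exact (MorphismProperty.of_isPullback (P := @Surjective) ((isPullback_whiskerRight π T).map (Over.forget S))
    (inferInstanceAs (Surjective π.left))).surj

variable {i : N ⟶ H} [IsMonHom i] {q : H ⟶ Q} [IsMonHom q] {a : AlgGrp.Action H X} {aN : AlgGrp.Action N X}
  {π : X ⟶ Y} {aQ : AlgGrp.Action Q Y}

omit [IsMonHom q] in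
theorem psi_whiskerRight (hequiv : (q ⊗ₘ π) ≫ aQ.act = a.act ≫ π) (f : T ⟶ X) :
    GIT.psi a f ≫ (π ▷ T) = (q ▷ T) ≫ GIT.psi aQ (f ≫ π) := by
  refine CartesianMonoidalCategory.hom_ext _ _ ?_ ?_
  · simp only [GIT.psi, Category.assoc, whiskerRight_fst, lift_fst_assoc, lift_fst]
    rw [← hequiv, ← tensorHom_id q T, ← id_tensorHom H f, ← id_tensorHom Q (f ≫ π), tensorHom_comp_tensorHom_assoc,
      tensorHom_comp_tensorHom_assoc]
    simp
  · simp [GIT.psi]

/-- The orbit of a point is the preimage of the orbit of its image. -/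
theorem range_psi_eq_preimage (haN : aN.act = (i ▷ X) ≫ a.act) (hπ : GIT.IsGeomQuot aN π)
    (hq : Function.Surjective q.left) (hequiv : (q ⊗ₘ π) ≫ aQ.act = a.act ≫ π) (f : T ⟶ X) :
    Set.range (GIT.psi a f).left = (π ▷ T).left ⁻¹' Set.range (GIT.psi aQ (f ≫ π)).left := by
  have hc : (GIT.psi a f).left ≫ (π ▷ T).left = (q ▷ T).left ≫ (GIT.psi aQ (f ≫ π)).left := by
    rw [← Over.comp_left, ← Over.comp_left, psi_whiskerRight hequiv f]
  refine Set.Subset.antisymm ?_ fun z hz => ?_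
  · rintro _ ⟨h, rfl⟩
    refine ⟨(q ▷ T).left h, ?_⟩
    rw [← Scheme.Hom.comp_apply, ← Scheme.Hom.comp_apply, hc]
  obtain ⟨u, hu⟩ := hz
  obtain ⟨h, rfl⟩ := surjective_whiskerRight q hq T u
  have sq := isPullback_whiskerRight π T
  obtain ⟨a', he, hi⟩ := GITQuotLib.exists_action hπ.inv sq
  have hsurj := GITQuotLib.psiY_surjective_baseChange hπ.inv hπ.orbit sq a' he hi
  have hz' : (π ▷ T).left z = (π ▷ T).left ((GIT.psi a f).left h) := by
    rw [← hu, ← Scheme.Hom.comp_apply, ← Scheme.Hom.comp_apply, hc]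
  obtain ⟨pt', hp1, hp2⟩ := Scheme.Pullback.exists_preimage_pullback (f := (π ▷ T).left) (g := (π ▷ T).left)
    z ((GIT.psi a f).left h) hz'
  obtain ⟨p, hp⟩ := hsurj pt'
  have h1 : a'.act.left p = z := by
    rw [← hp1, ← hp, GIT.PsiY, ← Scheme.Hom.comp_apply, pullback.lift_fst]
  have h2 : (snd N (X ⊗ T)).left p = (GIT.psi a f).left h := by
    rw [← hp2, ← hp, GIT.PsiY, ← Scheme.Hom.comp_apply, pullback.lift_snd]
  obtain ⟨w, rfl⟩ := exists_whiskerLeft_preimage (GIT.psi a f) p h h2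
  let Ξ : N ⊗ (H ⊗ T) ⟶ H ⊗ T :=
    lift ((fst N (H ⊗ T) ≫ i) * (snd N (H ⊗ T) ≫ fst H T)) (snd N (H ⊗ T) ≫ snd H T)
  have hsnd : a'.act ≫ snd X T = snd N (X ⊗ T) ≫ snd X T := by
    have := congrArg (· ≫ snd Y T) (show a'.act ≫ (π ▷ T) = snd N (X ⊗ T) ≫ (π ▷ T) from hi)
    simpa using this
  have e : Ξ ≫ GIT.psi a f = (N ◁ GIT.psi a f) ≫ a'.act := by
    refine CartesianMonoidalCategory.hom_ext _ _ ?_ ?_
    · have e1 : Ξ ≫ (H ◁ f) = lift ((fst N (H ⊗ T) ≫ i) * (snd N (H ⊗ T) ≫ fst H T))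
          ((snd N (H ⊗ T) ≫ snd H T) ≫ f) := lift_whiskerLeft _ _ _
      have e2 : (N ◁ GIT.psi a f) ≫ (N ◁ fst X T) = lift (fst N (H ⊗ T)) (snd N (H ⊗ T) ≫ (H ◁ f) ≫ a.act) := by
        refine CartesianMonoidalCategory.hom_ext _ _ ?_ ?_
        · simp
        · simp [GIT.psi]
      have e3 : lift (snd N (H ⊗ T) ≫ fst H T) ((snd N (H ⊗ T) ≫ snd H T) ≫ f) =
          snd N (H ⊗ T) ≫ (H ◁ f) := by
        refine CartesianMonoidalCategory.hom_ext _ _ ?_ ?_ <;> simp
      rw [Category.assoc, Category.assoc, he, ← Category.assoc (N ◁ GIT.psi a f), e2, haN,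
        lift_whiskerRight_assoc, GIT.psi, lift_fst, ← Category.assoc Ξ, e1, lift_mul_act, e3, Category.assoc]
    · rw [Category.assoc, Category.assoc, hsnd, GIT.psi, lift_snd, whiskerLeft_snd_assoc, lift_snd]
      simp [Ξ]
  refine ⟨Ξ.left w, ?_⟩
  rw [← h1, ← Scheme.Hom.comp_apply, ← Scheme.Hom.comp_apply, ← Over.comp_left, ← Over.comp_left, e]

omit [GrpObj H] [GrpObj N] [GrpObj Q] in
/-- Geometric points lift along surjections locally of finite type. -/
theorem exists_lift_point {π : X ⟶ Y} [LocallyOfFiniteType π.left] (hπ : Function.Surjective π.left)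
    {Ω : Type u} [Field Ω] [IsAlgClosed Ω] (eT : T.left ≅ Spec (CommRingCat.of Ω)) (y : T ⟶ Y) :
    ∃ f : T ⟶ X, f ≫ π = y := by
  let P := pullback π.left (eT.inv ≫ y.left)
  let g : P ⟶ Spec (CommRingCat.of Ω) := pullback.snd π.left (eT.inv ≫ y.left)
  haveI : LocallyOfFiniteType g := MorphismProperty.pullback_snd _ _ inferInstance
  haveI : JacobsonSpace P := LocallyOfFiniteType.jacobsonSpace g
  obtain ⟨x, hx⟩ := hπ ((eT.inv ≫ y.left) (IsLocalRing.closedPoint Ω))
  obtain ⟨z, -, -⟩ := Scheme.Pullback.exists_preimage_pullback (f := π.left) (g := eT.inv ≫ y.left) x _ hx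
  obtain ⟨z', -, hz'⟩ := nonempty_inter_closedPoints (Z := (Set.univ : Set P)) ⟨z, trivial⟩
    isClosed_univ.isLocallyClosed
  have hsec := pointOfClosedPoint_comp g z' hz'
  let p := eT.hom ≫ pointOfClosedPoint g z' hz' ≫ pullback.fst π.left (eT.inv ≫ y.left)
  have hp : p ≫ π.left = y.left := by
    simp only [p, Category.assoc, pullback.condition]
    rw [show pullback.snd π.left (eT.inv ≫ y.left) = g from rfl, reassoc_of% hsec, eT.hom_inv_id_assoc]
  exact ⟨Over.homMk p (by rw [← Over.w π, ← Category.assoc, hp, Over.w y]), Over.OverMorphism.ext hp⟩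

/-- Closed orbits upstairs and downstairs. -/
theorem isClosedAction_iff_of_normal (haN : aN.act = (i ▷ X) ≫ a.act) (hπ : GIT.IsGeomQuot aN π)
    (hq : Function.Surjective q.left) (hequiv : (q ⊗ₘ π) ≫ aQ.act = a.act ≫ π) [LocallyOfFiniteType π.left] :
    GIT.IsClosedAction aQ ↔ GIT.IsClosedAction a := by
  constructor
  · intro h Ω _ _ T eT f
    show IsClosed (Set.range (GIT.psi a f).left)
    rw [range_psi_eq_preimage haN hπ hq hequiv f]
    exact (h Ω T eT (f ≫ π)).preimage (π ▷ T).left.continuous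
  · intro h Ω _ _ T eT y
    obtain ⟨f, rfl⟩ := exists_lift_point hπ.surj eT y
    have hquot : IsQuotientMap (π ▷ T).left :=
      GITQuotLib.isQuotientMap_of_isUnivSubmersive (MorphismProperty.of_isPullback
        (P := MorphismProperty.universally (topologically @IsQuotientMap))
        ((isPullback_whiskerRight π T).map (Over.forget S)) hπ.subm)
    show IsClosed (Set.range (GIT.psi aQ (f ≫ π)).left)
    rw [← hquot.isClosed_preimage, ← range_psi_eq_preimage haN hπ hq hequiv f]
    exact h Ω T eT f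

end GITAffLib
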