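import Groth.Agent.GITAffLib.Core
import Mathlib

/-!
# Integrality of invariant-separated quasi-finite equivariant maps

The algebraic part of Mumford's proof that affine geometric quotients with finite stabilisers have proper actions.
-/

set_option autoImplicit false
set_option backward.isDefEq.respectTransparency false
set_option synthInstance.maxHeartbeats 400000
set_option maxHeartbeats 1000000
set_option linter.style.haveILetI false

universe u

noncomputable section

open TensorProduct HopfRep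

namespace GITAffLib

variable {k : Type u} [Field k] {A : Type u} [CommRing A]

section General

variable [Algebra k A]

theorem exists_factor {P Q R : Type u} [CommRing P] [CommRing Q] [CommRing R] [Algebra k P] [Algebra k Q]
    [Algebra k R] (f : P →ₐ[k] R) (g : Q →ₐ[k] R) (hg : Function.Injective g) (h : ∀ x, f x ∈ g.range) :
    ∃ f' : P →ₐ[k] Q, g.comp f' = f := by
  refine ⟨(AlgEquiv.ofInjective g hg).symm.toAlgHom.comp (f.codRestrict g.range h), AlgHom.ext fun x => ?_⟩
  show g ((AlgEquiv.ofInjective g hg).symm ⟨f x, h x⟩) = f x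
  exact congrArg Subtype.val ((AlgEquiv.ofInjective g hg).apply_symm_apply ⟨f x, h x⟩)

theorem mem_range_comap_of_pow {P Q : Type*} [CommRing P] [CommRing Q] (f : P →+* Q) (hf : Function.Injective f)
    (r : P) (hr : ∀ x, ∃ m : ℕ, ∃ y, f y = f r ^ m * x) (q : PrimeSpectrum P) (hq : r ∉ q.asIdeal) :
    q ∈ Set.range (PrimeSpectrum.comap f) := by
  have hpow : ∀ m : ℕ, r ^ m ∉ q.asIdeal := fun m h => hq (q.2.mem_of_pow_mem m h)
  let I : Ideal Q :=
    { carrier := {x | ∃ m : ℕ, ∃ y, f y = f r ^ m * x ∧ y ∈ q.asIdeal}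
      zero_mem' := ⟨0, 0, by simp, zero_mem _⟩
      add_mem' := by
        rintro x x' ⟨m, y, hy, hyq⟩ ⟨n, z, hz, hzq⟩
        exact ⟨m + n, r ^ n * y + r ^ m * z, by simp [hy, hz]; ring,
          add_mem (Ideal.mul_mem_left _ _ hyq) (Ideal.mul_mem_left _ _ hzq)⟩
      smul_mem' := by
        rintro c x ⟨m, y, hy, hyq⟩
        obtain ⟨n, z, hz⟩ := hr c
        exact ⟨n + m, z * y, by simp [hy, hz]; ring, Ideal.mul_mem_left _ _ hyq⟩ }
  refine ⟨⟨I, fun htop => ?_, fun {x x'} hxx => ?_⟩, ?_⟩
  · obtain ⟨m, y, hy, hyq⟩ := (htop ▸ Submodule.mem_top : (1 : Q) ∈ I)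
    rw [mul_one, ← map_pow] at hy
    exact hpow m (hf hy ▸ hyq)
  · obtain ⟨M, Y, hY, hYq⟩ := hxx
    obtain ⟨m, y, hy⟩ := hr x
    obtain ⟨n, z, hz⟩ := hr x'
    have e : r ^ M * (y * z) = Y * r ^ (m + n) := hf (by simp [hy, hz, hY]; ring)
    have hm : r ^ M * (y * z) ∈ q.asIdeal := e ▸ Ideal.mul_mem_right _ _ hYq
    rcases q.2.mem_or_mem ((q.2.mem_or_mem hm).resolve_left (hpow M)) with h | h
    · exact Or.inl ⟨m, y, hy, h⟩
    · exact Or.inr ⟨n, z, hz, h⟩
  · refine PrimeSpectrum.ext (Ideal.ext fun y0 => ⟨?_, fun h => ⟨0, y0, by simp, h⟩⟩)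
    rintro ⟨m, y, hy, hyq⟩
    rw [← map_pow, ← map_mul] at hy
    exact (q.2.mem_or_mem (hf hy ▸ hyq)).resolve_left (hpow m)

/-- Smooth base change of the integral closure, in tensor form. -/
theorem mem_range_map_integralClosure [Algebra.Smooth k A] {B : Type u} [CommRing B] [Algebra k B]
    (C : Subalgebra k B) {z : B ⊗[k] A}
    (hz : (Algebra.TensorProduct.map C.val (AlgHom.id k A)).toRingHom.IsIntegralElem z) :
    z ∈ (Algebra.TensorProduct.map ((integralClosure C B).val.restrictScalars k) (AlgHom.id k A)).range := by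
  let E : (C ⊗[k] A) ⊗[C] B ≃ₐ[C] B ⊗[k] A :=
    (Algebra.TensorProduct.comm C (C ⊗[k] A) B).trans (Algebra.TensorProduct.cancelBaseChange k C C B A)
  have hE : ∀ (c : C) (a : A) (b : B), E ((c ⊗ₜ[k] a) ⊗ₜ[C] b) = ((c : B) * b) ⊗ₜ[k] a := fun c a b => by
    simp [E, Algebra.smul_def]
  have hcomp : E.symm.toRingEquiv.toRingHom.comp (Algebra.TensorProduct.map C.val (AlgHom.id k A)).toRingHom =
      algebraMap (C ⊗[k] A) ((C ⊗[k] A) ⊗[C] B) := RingHom.ext fun s => by
    show E.symm (Algebra.TensorProduct.map C.val (AlgHom.id k A) s) = s ⊗ₜ[C] (1 : B)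
    rw [AlgEquiv.symm_apply_eq]
    induction s with
    | zero => simp
    | add p q hp hq => simp only [map_add, TensorProduct.add_tmul, hp, hq]
    | tmul c a => simp [hE]
  obtain ⟨p, hp, hpz⟩ := hz
  have hint : IsIntegral (C ⊗[k] A) (E.symm z) := ⟨p, hp, by
    rw [← hcomp]
    show Polynomial.eval₂ _ (E.symm.toRingEquiv.toRingHom z) p = 0
    rw [← Polynomial.hom_eval₂, hpz, map_zero]⟩
  obtain ⟨y, hy⟩ := (TensorProduct.toIntegralClosure_bijective_of_smooth (R := C) (S := C ⊗[k] A) (B := B)).2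
    ⟨E.symm z, hint⟩
  have hy' : Algebra.TensorProduct.map (AlgHom.id (C ⊗[k] A) (C ⊗[k] A)) (integralClosure C B).val y = E.symm z :=
    congrArg Subtype.val hy
  rw [← E.apply_symm_apply z, ← hy']
  clear hy hy'
  induction y with
  | zero => simp
  | add p q hp hq => rw [map_add, map_add]; exact add_mem hp hq
  | tmul s b =>
    induction s with
    | zero => simp
    | add p q hp hq => rw [TensorProduct.add_tmul, map_add, map_add]; exact add_mem hp hq
    | tmul c a =>
      refine ⟨(algebraMap C (integralClosure C B) c * b) ⊗ₜ[k] a, ?_⟩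
      simp only [RingHom.coe_coe, AlgHom.toRingHom_eq_coe, Algebra.TensorProduct.map_tmul, AlgHom.id_apply, hE,
        AlgHom.coe_restrictScalars', Subalgebra.coe_val]
      rfl

end General

variable [HopfAlgebra k A]

section Invert

variable {R : Type u} [CommRing R] [Algebra k R] [Comod k A R] [GLin.IsCoactAlg k A R]

theorem invSet_compl {W : Set (PrimeSpectrum R)} (hi : InvSet (k := k) (A := A) W) :
    InvSet (k := k) (A := A) Wᶜ := by
  let δ := GLin.coactAlgHom k A R
  let σ : R ⊗[k] A →ₐ[k] R ⊗[k] A := Algebra.TensorProduct.lift δ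
    ((Algebra.TensorProduct.includeRight : A →ₐ[k] R ⊗[k] A).comp (HopfAlgebra.antipodeAlgHom k A))
    fun _ _ => .all _ _
  have h1 : σ.comp (Algebra.TensorProduct.includeLeft : R →ₐ[k] R ⊗[k] A) = δ :=
    Algebra.TensorProduct.lift_comp_includeLeft _ _ _
  have h2 : σ.comp δ = (Algebra.TensorProduct.includeLeft : R →ₐ[k] R ⊗[k] A) := by
    refine AlgHom.ext fun b => ?_
    let Φ := (LinearMap.mul' k A ∘ₗ (HopfAlgebra.antipode k).lTensor A).lTensor R
    have e1 : ∀ z : R ⊗[k] A, σ z = Φ (TensorProduct.assoc k R A A (δ.toLinearMap.rTensor A z)) := fun z => by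
      induction z with
      | zero => simp
      | add p q hp hq => simp only [map_add, hp, hq]
      | tmul p q =>
        show _ = Φ (TensorProduct.assoc k R A A (δ p ⊗ₜ[k] q))
        simp only [σ, Algebra.TensorProduct.lift_tmul, AlgHom.comp_apply]
        generalize δ p = y
        induction y with
        | zero => simp [TensorProduct.zero_tmul]
        | add c d hc hd => simp only [TensorProduct.add_tmul, map_add, add_mul, hc, hd]
        | tmul c d => simp [Φ]
    have e2 : TensorProduct.assoc k R A A (δ.toLinearMap.rTensor A (δ b)) =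
        (CoalgebraStruct.comul (R := k) (A := A)).lTensor R (δ b) :=
      LinearMap.congr_fun (Comod.coassoc (k := k) (A := A) (V := R)) b
    have e3 : (CoalgebraStruct.counit (R := k) (A := A)).lTensor R (δ b) = b ⊗ₜ[k] (1 : k) :=
      LinearMap.congr_fun (Comod.counit_comp (k := k) (A := A) (V := R)) b
    show σ (δ b) = b ⊗ₜ[k] (1 : A)
    rw [e1, e2]
    show Φ ((CoalgebraStruct.comul (R := k) (A := A)).lTensor R (δ b)) = _
    rw [← LinearMap.comp_apply, ← LinearMap.lTensor_comp, LinearMap.comp_assoc,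
      HopfAlgebra.mul_antipode_lTensor_comul, LinearMap.lTensor_comp, LinearMap.comp_apply, e3]
    simp
  intro P hP hP'
  apply hP
  have := hi (PrimeSpectrum.comap σ.toRingHom P) (by
    rw [← PrimeSpectrum.comap_comp_apply]
    exact (congrArg (fun f : R →ₐ[k] R ⊗[k] A => PrimeSpectrum.comap f.toRingHom P) h1) ▸ hP')
  rw [← PrimeSpectrum.comap_comp_apply] at this
  exact (congrArg (fun f : R →ₐ[k] R ⊗[k] A => PrimeSpectrum.comap f.toRingHom P) h2) ▸ this

end Invert

section Sub

variable {B B' : Type u} [CommRing B] [CommRing B'] [Algebra k B] [Algebra k B'] [Comod k A B]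
  [GLin.IsCoactAlg k A B]

/-- A coaction corestricted to a subalgebra. -/
@[reducible] def subComod (j : B' →ₐ[k] B) (hj : Function.Injective j) (δ' : B' →ₐ[k] B' ⊗[k] A)
    (h : (Algebra.TensorProduct.map j (AlgHom.id k A)).comp δ' = (GLin.coactAlgHom k A B).comp j) :
    Comod k A B' where
  coact := δ'.toLinearMap
  counit_comp := by
    have h' : ∀ x, j.toLinearMap.rTensor A (δ' x) = Comod.coact (k := k) (A := A) (j x) := fun x =>
      AlgHom.congr_fun h x
    refine LinearMap.ext fun b => Module.Flat.rTensor_preserves_injective_linearMap (M := k) j.toLinearMap hj ?_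
    show j.toLinearMap.rTensor k ((CoalgebraStruct.counit (R := k) (A := A)).lTensor B' (δ' b)) = j b ⊗ₜ[k] (1 : k)
    rw [← LinearMap.comp_apply, LinearMap.rTensor_comp_lTensor, ← LinearMap.lTensor_comp_rTensor,
      LinearMap.comp_apply, h']
    exact LinearMap.congr_fun (Comod.counit_comp (k := k) (A := A) (V := B)) (j b)
  coassoc := by
    have h' : ∀ x, j.toLinearMap.rTensor A (δ' x) = Comod.coact (k := k) (A := A) (j x) := fun x =>
      AlgHom.congr_fun h x
    refine LinearMap.ext fun b =>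
      Module.Flat.rTensor_preserves_injective_linearMap (M := A ⊗[k] A) j.toLinearMap hj ?_
    have nat : ∀ z : B' ⊗[k] A, j.toLinearMap.rTensor (A ⊗[k] A)
        (TensorProduct.assoc k B' A A (δ'.toLinearMap.rTensor A z)) =
        TensorProduct.assoc k B A A ((Comod.coact (k := k) (A := A) (V := B)).rTensor A
          (j.toLinearMap.rTensor A z)) := fun z => by
      induction z with
      | zero => simp
      | add p q hp hq => simp only [map_add, hp, hq]
      | tmul p q =>
        simp only [LinearMap.rTensor_tmul, AlgHom.toLinearMap_apply, ← h']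
        generalize δ' p = y
        induction y with
        | zero => simp [TensorProduct.zero_tmul]
        | add c d hc hd => simp only [TensorProduct.add_tmul, map_add, hc, hd]
        | tmul c d => simp
    show j.toLinearMap.rTensor (A ⊗[k] A) (TensorProduct.assoc k B' A A (δ'.toLinearMap.rTensor A (δ' b))) =
      j.toLinearMap.rTensor (A ⊗[k] A) ((CoalgebraStruct.comul (R := k) (A := A)).lTensor B' (δ' b))
    rw [nat, ← LinearMap.comp_apply (j.toLinearMap.rTensor (A ⊗[k] A)), LinearMap.rTensor_comp_lTensor,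
      ← LinearMap.lTensor_comp_rTensor, LinearMap.comp_apply, h']
    exact LinearMap.congr_fun (Comod.coassoc (k := k) (A := A) (V := B)) (j b)

end Sub

set_option maxHeartbeats 8000000 in
/-- A quasi-finite equivariant map whose fibres over the closed points of the quotient are closed is integral. -/
theorem isIntegral_of_isClosed [Algebra.Smooth k A] {β : A →ₗ[k] k} (hβ : ComodLib.IsInvariant β) (h1 : β 1 = 1)
    {B R : Type u} [CommRing B] [CommRing R] [Algebra k B] [Algebra k R] [Comod k A B] [GLin.IsCoactAlg k A B]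
    (C : Subalgebra k B) [Algebra.FiniteType k C] [Algebra.FiniteType k B] [Algebra.QuasiFinite C B]
    (hC : ∀ c ∈ C, GLin.coactAlgHom k A B c ∈ (Algebra.TensorProduct.map C.val (AlgHom.id k A)).range)
    (e : R →ₐ[k] B) (heC : ∀ r, e r ∈ C) (hinv : ∀ r, e r ∈ fixedPts k A B)
    (hfix : ∀ b ∈ fixedPts k A B, b ∈ Set.range e)
    (hcl : ∀ m : PrimeSpectrum R, m.asIdeal.IsMaximal → (∃ P, PrimeSpectrum.comap e.toRingHom P = m) ∧
      IsClosed (PrimeSpectrum.comap ((integralClosure C B).val.restrictScalars k).toRingHom ''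
        (PrimeSpectrum.comap e.toRingHom ⁻¹' {m}))) :
    Algebra.IsIntegral C B := by
  let B' := integralClosure C B
  let j : B' →ₐ[k] B := B'.val.restrictScalars k
  have hj : Function.Injective j := Subtype.val_injective
  haveI : Algebra.FiniteType C B := Algebra.FiniteType.of_restrictScalars_finiteType k C B
  -- the coaction preserves the integral closure
  obtain ⟨δC, hδC⟩ := exists_factor ((GLin.coactAlgHom k A B).comp C.val)
    (Algebra.TensorProduct.map C.val (AlgHom.id k A))
    (Module.Flat.rTensor_preserves_injective_linearMap (M := A) C.val.toLinearMap Subtype.val_injective)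
    (fun c => hC c c.2)
  let jA : B' ⊗[k] A →ₐ[k] B ⊗[k] A := Algebra.TensorProduct.map j (AlgHom.id k A)
  have hρ : ∀ b : B', ((GLin.coactAlgHom k A B).comp j) b ∈ jA.range := by
    intro b
    refine mem_range_map_integralClosure C (z := GLin.coactAlgHom k A B (j b)) ?_
    obtain ⟨p, hp, hpb⟩ := b.2
    refine ⟨p.map δC.toRingHom, hp.map _, ?_⟩
    rw [Polynomial.eval₂_map, show (Algebra.TensorProduct.map C.val (AlgHom.id k A)).toRingHom.comp δC.toRingHom =
      (GLin.coactAlgHom k A B).toRingHom.comp (algebraMap C B) from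
        RingHom.ext fun c => AlgHom.congr_fun hδC c]
    show Polynomial.eval₂ _ ((GLin.coactAlgHom k A B).toRingHom (b : B)) p = 0
    rw [← Polynomial.hom_eval₂, hpb, map_zero]
  have hjA : Function.Injective jA :=
    Module.Flat.rTensor_preserves_injective_linearMap (M := A) j.toLinearMap hj
  obtain ⟨δ', hδ'⟩ := exists_factor (k := k) (P := B') (Q := B' ⊗[k] A) (R := B ⊗[k] A)
    ((GLin.coactAlgHom k A B).comp j) jA hjA hρ
  letI : Comod k A B' := subComod j hj δ' hδ'
  haveI : GLin.IsCoactAlg k A B' := ⟨map_one δ', map_mul δ'⟩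
  have hδ : ∀ b, GLin.coactAlgHom k A B' b = δ' b := fun _ => rfl
  -- the open image
  let Good' : B' → Prop := fun r => ∀ x : B, ∃ m : ℕ, ∃ y : B', j y = j r ^ m * x
  let U : Set (PrimeSpectrum B') := {q | ∃ r, Good' r ∧ r ∉ q.asIdeal}
  have hU : U = Set.range (PrimeSpectrum.comap j.toRingHom) := by
    refine Set.Subset.antisymm (fun q ⟨r, hr, hrq⟩ => mem_range_comap_of_pow j.toRingHom hj r hr q hrq) ?_
    rintro _ ⟨P, rfl⟩
    haveI : Algebra.QuasiFiniteAt C P.asIdeal := inferInstance
    obtain ⟨r, hrP, hr, H⟩ := Algebra.zariskisMainProperty_iff.1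
      (Algebra.ZariskisMainProperty.of_finiteType (R := C) P.asIdeal)
    exact ⟨⟨r, hr⟩, fun x => ⟨(H x).choose, ⟨_, (H x).choose_spec⟩, rfl⟩, hrP⟩
  have hUo : IsOpen U := by
    have : U = ⋃ r : {r // Good' r}, (PrimeSpectrum.basicOpen r.1 : Set (PrimeSpectrum B')) := by
      ext q
      simp [U]
    rw [this]
    exact isOpen_iUnion fun r => (PrimeSpectrum.basicOpen r.1).isOpen
  by_cases hempty : U = Set.univ
  · refine ⟨fun b => ?_⟩
    let I : Ideal B' :=
      { carrier := {c | ∃ y : B', j y = j c * b}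
        zero_mem' := ⟨0, by simp⟩
        add_mem' := by
          rintro c c' ⟨y, hy⟩ ⟨z, hz⟩
          exact ⟨y + z, by rw [map_add, map_add, hy, hz, add_mul]⟩
        smul_mem' := by
          rintro d c ⟨y, hy⟩
          exact ⟨d * y, by rw [map_mul, smul_eq_mul, map_mul, hy, mul_assoc]⟩ }
    have hI : I = ⊤ := by
      by_contra hI
      obtain ⟨q, hq, hIq⟩ := Ideal.exists_le_maximal I hI
      obtain ⟨r, hr, hrq⟩ := hempty.symm.subset (Set.mem_univ ⟨q, hq.isPrime⟩)
      obtain ⟨m, y, hy⟩ := hr b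
      exact hrq (hq.isPrime.mem_of_pow_mem m (hIq ⟨y, by rw [map_pow, hy]⟩))
    obtain ⟨y, hy⟩ := (hI ▸ Submodule.mem_top : (1 : B') ∈ I)
    rw [map_one, one_mul] at hy
    exact hy ▸ y.2
  exfalso
  obtain ⟨q₀, hq₀⟩ := (Set.ne_univ_iff_exists_notMem U).1 hempty
  obtain ⟨n, hn, hqn⟩ := Ideal.exists_le_maximal q₀.asIdeal q₀.2.ne_top
  let N : PrimeSpectrum B' := ⟨n, hn.isPrime⟩
  have hN : N ∉ U := fun ⟨r, hr, hrn⟩ => hq₀ ⟨r, hr, fun h => hrn (hqn h)⟩
  let e' : R →ₐ[k] B' :=
    { toFun := fun r => ⟨e r, by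
        have h := isIntegral_algebraMap (R := C) (A := B) (x := ⟨e r, heC r⟩)
        exact h⟩
      map_one' := Subtype.ext (map_one e)
      map_mul' := fun x y => Subtype.ext (map_mul e x y)
      map_zero' := Subtype.ext (map_zero e)
      map_add' := fun x y => Subtype.ext (map_add e x y)
      commutes' := fun c => Subtype.ext (e.commutes c) }
  have hje : j.comp e' = e := AlgHom.ext fun _ => rfl
  let m := PrimeSpectrum.comap e'.toRingHom N
  have hm : m.asIdeal.IsMaximal := by
    letI : Field (B' ⧸ n) := Ideal.Quotient.field n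
    let mC : Ideal C := n.comap (algebraMap C B')
    haveI : mC.IsMaximal := Ideal.isMaximal_comap_of_isIntegral_of_isMaximal (R := C) n
    letI : Field (C ⧸ mC) := Ideal.Quotient.field mC
    haveI : Module.Finite k (C ⧸ mC) := finite_of_finite_type_of_isJacobsonRing k (C ⧸ mC)
    letI : Algebra (C ⧸ mC) (B' ⧸ n) := (Ideal.quotientMap n (algebraMap C B') le_rfl).toAlgebra
    haveI : IsScalarTower C (C ⧸ mC) (B' ⧸ n) := IsScalarTower.of_algebraMap_eq fun _ => rfl
    haveI : IsScalarTower k (C ⧸ mC) (B' ⧸ n) := IsScalarTower.of_algebraMap_eq fun _ => rfl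
    haveI : Algebra.IsIntegral (C ⧸ mC) (B' ⧸ n) := ⟨fun x => by
      obtain ⟨y, rfl⟩ := Ideal.Quotient.mk_surjective x
      exact ((Algebra.IsIntegral.isIntegral (R := C) y).map (Ideal.Quotient.mkₐ C n)).tower_top⟩
    haveI : Algebra.IsIntegral k (B' ⧸ n) := Algebra.IsIntegral.trans (C ⧸ mC)
    let φ : R →ₐ[k] B' ⧸ n := (Ideal.Quotient.mkₐ k n).comp e'
    haveI : Algebra.IsIntegral k φ.range := ⟨fun x =>
      (isIntegral_algHom_iff φ.range.val Subtype.val_injective).1 (Algebra.IsIntegral.isIntegral _)⟩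
    have hfield : IsField φ.range := isField_of_isIntegral_of_isField' (Field.toIsField k)
    have hker : RingHom.ker φ = m.asIdeal := by
      ext r
      exact Ideal.Quotient.eq_zero_iff_mem
    rw [← hker]
    exact Ideal.Quotient.maximal_of_isField _
      (MulEquiv.isField hfield (Ideal.quotientKerEquivRange φ).toMulEquiv)
  obtain ⟨⟨P₁, hP₁⟩, hclosed⟩ := hcl m hm
  let F : Set (PrimeSpectrum B') := PrimeSpectrum.comap e'.toRingHom ⁻¹' {m}
  have hF : IsClosed F :=
    ((PrimeSpectrum.isClosed_singleton_iff_isMaximal m).2 hm).preimage (PrimeSpectrum.continuous_comap _)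
  have hW : PrimeSpectrum.comap j.toRingHom '' (PrimeSpectrum.comap e.toRingHom ⁻¹' {m}) = U ∩ F := by
    rw [hU, ← hje]
    ext q
    constructor
    · rintro ⟨P, hP, rfl⟩
      exact ⟨⟨P, rfl⟩, hP⟩
    · rintro ⟨⟨P, rfl⟩, hP⟩
      exact ⟨P, hP, rfl⟩
  -- invariance
  have hcomp : ∀ r, GLin.coactAlgHom k A B' (e' r) = e' r ⊗ₜ[k] (1 : A) := fun r => hjA <| by
    rw [hδ, ← AlgHom.comp_apply, hδ', Algebra.TensorProduct.map_tmul, AlgHom.id_apply]
    exact hinv r
  have hiF : InvSet (k := k) (A := A) F := fun P hP => by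
    show PrimeSpectrum.comap e'.toRingHom (PrimeSpectrum.comap _ P) = m
    have hP' : PrimeSpectrum.comap e'.toRingHom (PrimeSpectrum.comap _ P) = m := hP
    rw [← PrimeSpectrum.comap_comp_apply] at hP' ⊢
    rwa [show (GLin.coactAlgHom k A B').toRingHom.comp e'.toRingHom =
      (Algebra.TensorProduct.includeLeft : B' →ₐ[k] B' ⊗[k] A).toRingHom.comp e'.toRingHom from
        RingHom.ext hcomp]
  have hiU : InvSet (k := k) (A := A) U := by
    rintro P ⟨r, hr, hrP⟩
    obtain ⟨P', rfl⟩ := mem_range_comap_of_pow jA.toRingHom hjA (r ⊗ₜ[k] (1 : A)) (fun x => by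
      induction x with
      | zero => exact ⟨0, 0, by simp⟩
      | add p q hp hq =>
        obtain ⟨a, y, hy⟩ := hp
        obtain ⟨b, z, hz⟩ := hq
        refine ⟨a + b, (r ⊗ₜ[k] (1 : A)) ^ b * y + (r ⊗ₜ[k] (1 : A)) ^ a * z, ?_⟩
        rw [map_add, map_mul, map_mul, map_pow, map_pow, hy, hz]
        ring
      | tmul b a =>
        obtain ⟨i, y, hy⟩ := hr b
        refine ⟨i, y ⊗ₜ[k] a, ?_⟩
        show jA _ = jA _ ^ i * _
        simp [jA, Algebra.TensorProduct.tmul_pow, hy]) P hrP
    rw [hU]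
    refine ⟨PrimeSpectrum.comap (GLin.coactAlgHom k A B).toRingHom P', ?_⟩
    rw [← PrimeSpectrum.comap_comp_apply, ← PrimeSpectrum.comap_comp_apply]
    exact congrArg (fun f : B' →ₐ[k] B ⊗[k] A => PrimeSpectrum.comap f.toRingHom P') hδ'.symm
  have hi₁ : InvSet (k := k) (A := A) (U ∩ F) := fun P hP => ⟨hiU P hP.1, hiF P hP.2⟩
  have hi₂ : InvSet (k := k) (A := A) (Uᶜ ∩ F) := fun P hP => ⟨invSet_compl hiU P hP.1, hiF P hP.2⟩
  obtain ⟨f, hf, h0, h1'⟩ := exists_separating (k := k) (A := A) hβ h1 (hW ▸ hclosed)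
    (hUo.isClosed_compl.inter hF) hi₁ hi₂
    (Set.disjoint_left.2 fun q hq hq' => hq'.1 hq.1)
  have hjf : j f ∈ fixedPts k A B := by
    show GLin.coactAlgHom k A B (j f) = j f ⊗ₜ[k] (1 : A)
    rw [← AlgHom.comp_apply, ← hδ', AlgHom.comp_apply, show δ' f = f ⊗ₜ[k] (1 : A) from hf,
      Algebra.TensorProduct.map_tmul, AlgHom.id_apply]
  obtain ⟨r, hr⟩ := hfix _ hjf
  obtain rfl : f = e' r := hj hr.symm
  have e₁ : r ∈ m.asIdeal := by
    have h := h0 (PrimeSpectrum.comap j.toRingHom P₁) (hW.subset ⟨P₁, hP₁, rfl⟩)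
    rw [← hP₁]
    exact h
  have e₂ : 1 - r ∈ m.asIdeal := by
    show e' (1 - r) ∈ n
    rw [map_sub, map_one]
    exact h1' N ⟨hN, rfl⟩
  exact hm.ne_top ((Ideal.eq_top_iff_one _).2 (by simpa using add_mem e₁ e₂))

end GITAffLib
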