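import Groth.Agent.GITAffLib.ProperPsi
import Groth.Agent.GITAffLib.PropAlg
import Groth.Agent.GITAffLib.Setup

/-!
# Proper actions on affine schemes
-/

set_option autoImplicit false
set_option backward.isDefEq.respectTransparency false
set_option synthInstance.maxHeartbeats 400000
set_option maxHeartbeats 2000000
set_option linter.style.haveILetI false

universe u

noncomputable section

open CategoryTheory CategoryTheory.Limits MonoidalCategory CartesianMonoidalCategory AlgebraicGeometry Topology
open Opposite CoactBr HopfRep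
open scoped MonObj TensorProduct

namespace GITAffLib

/-- Left translation on `G ⊗ X`. -/
def leftAction {S : Scheme.{u}} (G X : Over S) [GrpObj G] : AlgGrp.Action G (G ⊗ X) where
  act := lift (fst G (G ⊗ X) * (snd G (G ⊗ X) ≫ fst G X)) (snd G (G ⊗ X) ≫ snd G X)
  one_act := by
    refine CartesianMonoidalCategory.hom_ext _ _ ?_ ?_
    · simp only [Category.assoc, lift_fst, MonObj.comp_mul, whiskerRight_fst, whiskerRight_snd_assoc]
      rw [show fst (𝟙_ (Over S)) (G ⊗ X) ≫ η[G] = 1 from by
        rw [toUnit_unique (fst _ _) (toUnit _), ← Hom.one_def], one_mul, leftUnitor_hom]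
    · simp [leftUnitor_hom]
  mul_act := by
    refine CartesianMonoidalCategory.hom_ext _ _ ?_ ?_
    · simp only [Category.assoc, lift_fst, lift_snd, MonObj.comp_mul, whiskerRight_fst, whiskerRight_snd_assoc,
        whiskerLeft_fst, whiskerLeft_snd_assoc, associator_hom_fst, associator_hom_snd_snd_assoc]
      rw [show fst (G ⊗ G) (G ⊗ X) ≫ μ[G] =
        (fst (G ⊗ G) (G ⊗ X) ≫ fst G G) * (fst (G ⊗ G) (G ⊗ X) ≫ snd G G) from by
          rw [← MonObj.comp_mul, Hom.mul_def, lift_fst_snd, Category.id_comp], mul_assoc]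
      congr 1
      congr 1
      simp
    · simp

theorem isIso_lift_pt₂ {k : Type u} [Field k] (R R' : Type u) [CommRing R] [Algebra k R] [CommRing R']
    [Algebra k R'] : IsIso (lift (pt (Algebra.TensorProduct.includeLeft : R →ₐ[k] R ⊗[k] R'))
      (pt (Algebra.TensorProduct.includeRight : R' →ₐ[k] R ⊗[k] R'))) := by
  letI := CoactBr.braidedAlgSpecOf k
  let e := Functor.Monoidal.μIso (algSpec (CommRingCat.of k)) (op (CommAlgCat.of k R)) (op (CommAlgCat.of k R'))
  have h' : lift (pt (Algebra.TensorProduct.includeLeft : R →ₐ[k] R ⊗[k] R'))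
      (pt (Algebra.TensorProduct.includeRight : R' →ₐ[k] R ⊗[k] R')) ≫ e.hom = 𝟙 (sp k (R ⊗[k] R')) := by
    refine (lift_pt_pt _ _).trans ?_
    rw [← pt_id]
    congr 1
    ext <;> simp
  refine ⟨⟨e.hom, h', ?_⟩⟩
  exact (cancel_mono e.hom).1 (((Category.assoc _ _ _).trans (congrArg (e.hom ≫ ·) h')).trans
    ((Category.comp_id _).trans (Category.id_comp _).symm))

variable {k : Type u} [Field k] {A : Type u} [CommRing A] [HopfAlgebra k A]
  {G X : Over (Spec (CommRingCat.of k))} [GrpObj G] {w : sp k A ⟶ G} [IsMonHom w] [IsIso w] {β : A →ₗ[k] k}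

theorem finiteType_of_iso {R : Type u} [CommRing R] [Algebra k R] {Z : Over (Spec (CommRingCat.of k))}
    (v : sp k R ⟶ Z) [IsIso v] [LocallyOfFiniteType Z.hom] : Algebra.FiniteType k R := by
  haveI : IsIso v.left := (Over.forget _).map_isIso v
  have h2 : LocallyOfFiniteType (Spec.map (CommRingCat.ofHom (algebraMap k R))) := by
    rw [show Spec.map (CommRingCat.ofHom (algebraMap k R)) = v.left ≫ Z.hom from (Over.w v).symm]
    infer_instance
  exact RingHom.finiteType_algebraMap.1 ((HasRingHomProperty.Spec_iff (P := @LocallyOfFiniteType)).1 h2)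

include w in
/-- A closed action with quasi-finite `Ψ` of a linearly reductive group on an affine scheme is proper. -/
theorem isProper_psi_of_affine (hβ : ComodLib.IsInvariant β) (h1 : β 1 = 1) [Algebra.Smooth k A]
    [IsAffine X.left] [LocallyOfFiniteType X.hom] (a : AlgGrp.Action G X) (hcl : GIT.IsClosedAction a)
    [LocallyQuasiFinite (GIT.psi a (𝟙 X)).left] : IsProper (GIT.psi a (𝟙 X)).left := by
  haveI hA : Algebra.FiniteType k A := Algebra.FiniteType.of_finitePresentation
  obtain ⟨R, _, _, ⟨v⟩⟩ := exists_iso_sp X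
  haveI : IsIso v.hom.left := (Over.forget _).map_isIso v.hom
  haveI hR : Algebra.FiniteType k R := finiteType_of_iso v.hom
  haveI : LocallyOfFiniteType G.hom := by
    haveI : IsIso (inv w).left := (Over.forget _).map_isIso (inv w)
    haveI : LocallyOfFiniteType (sp k A).hom :=
      (HasRingHomProperty.Spec_iff (P := @LocallyOfFiniteType)).2 (RingHom.finiteType_algebraMap.2 hA)
    rw [← Over.w (inv w)]; infer_instance
  haveI : QuasiCompact G.hom := by
    haveI : IsIso w.left := (Over.forget _).map_isIso w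
    haveI : IsAffine G.left := IsAffine.of_isIso (inv w.left)
    infer_instance
  let B := R ⊗[k] A
  let vB : sp k B ≅ G ⊗ X := asIso (coord w v)
  let aG := leftAction G X
  letI : Comod k A B := comod w vB aG
  haveI : GLin.IsCoactAlg k A B := isCoactAlg w vB aG
  let δ : B →ₐ[k] B ⊗[k] A := rho w vB aG
  let e₁ : R →ₐ[k] B := rho w v a
  let e : R →ₐ[k] B := Algebra.TensorProduct.includeLeft
  have hv1 : vB.hom ≫ a.act = pt e₁ ≫ v.hom := (pt_rho w v a).symm
  have hv2 : vB.hom ≫ snd G X = pt e ≫ v.hom := lift_snd _ _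
  have hequiv : aG.act ≫ a.act = (G ◁ a.act) ≫ a.act := by
    show lift _ _ ≫ a.act = _
    rw [lift_mul_act, ← comp_lift, lift_fst_snd, Category.comp_id]
    congr 1
  have hδ₁ : δ.comp e₁ = (Algebra.TensorProduct.map e₁ (AlgHom.id k A)).comp (rho w v a) :=
    rho_equivariant w v a vB aG a.act e₁ hv1 hequiv
  have hinv : ∀ r, δ (e r) = e r ⊗ₜ[k] (1 : A) := fun r => by
    have h := (act_comp_eq_iff w vB aG (snd G X)).1 (lift_snd _ _)
    rw [hv2, ← Category.assoc, ← Category.assoc, ← pt_comp, ← pt_comp, cancel_mono] at h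
    exact AlgHom.congr_fun (pt_injective h) r
  -- the invariants
  have hfix : ∀ b : B, δ b = b ⊗ₜ[k] (1 : A) → b ∈ Set.range e := by
    intro b hb
    obtain ⟨g, hg⟩ := Groth.Agent.DiagRep.exists_pt ((vB.hom ≫ fst G X) ≫ inv w)
    obtain ⟨ε₀, hε⟩ := Groth.Agent.DiagRep.exists_pt ((v.hom ≫ lift (1 : X ⟶ G) (𝟙 X)) ≫ vB.inv)
    have hgw : pt g ≫ w = vB.hom ≫ fst G X := by rw [← hg]; simp
    have hε' : pt ε₀ ≫ vB.hom = v.hom ≫ lift (1 : X ⟶ G) (𝟙 X) := by rw [← hε]; simp
    have h := lift_act w vB aG (AlgHom.id k B) g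
    rw [hgw, pt_id, Category.id_comp] at h
    have hl : lift (vB.hom ≫ fst G X)⁻¹ vB.hom ≫ aG.act = pt (e.comp ε₀) ≫ vB.hom := by
      rw [pt_comp, Category.assoc, hε', ← Category.assoc, ← hv2]
      show lift _ _ ≫ lift _ _ = _
      refine CartesianMonoidalCategory.hom_ext _ _ ?_ ?_ <;>
        simp [MonObj.comp_mul, MonObj.comp_one]
    rw [hl, cancel_mono] at h
    refine ⟨ε₀ b, ?_⟩
    have h' := AlgHom.congr_fun (pt_injective h) b
    simp only [AlgHom.comp_apply] at h'
    rw [h', show rho w vB aG b = b ⊗ₜ[k] (1 : A) from hb, Algebra.TensorProduct.lift_tmul, map_one, mul_one]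
    rfl
  -- the image of `Ψ`
  let ψ : R ⊗[k] R →ₐ[k] B := Algebra.TensorProduct.lift e₁ e fun _ _ => .all _ _
  let C : Subalgebra k B := ψ.range
  haveI : Algebra.FiniteType k (R ⊗[k] R) := Algebra.FiniteType.trans (S := R) inferInstance inferInstance
  haveI : Algebra.FiniteType k C :=
    Algebra.FiniteType.of_surjective ψ.rangeRestrict ψ.rangeRestrict_surjective
  haveI : Algebra.FiniteType k B := Algebra.FiniteType.trans (S := R) inferInstance inferInstance
  haveI : Algebra.FiniteType C B := Algebra.FiniteType.of_restrictScalars_finiteType k C B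
  let iX : sp k (R ⊗[k] R) ⟶ X ⊗ X :=
    lift (pt (Algebra.TensorProduct.includeLeft : R →ₐ[k] R ⊗[k] R) ≫ v.hom)
      (pt (Algebra.TensorProduct.includeRight : R →ₐ[k] R ⊗[k] R) ≫ v.hom)
  haveI : IsIso iX := by
    haveI := isIso_lift_pt₂ (k := k) R R
    rw [show iX = lift (pt _) (pt _) ≫ (v.hom ⊗ₘ v.hom) from (lift_map _ _ _ _).symm]
    infer_instance
  haveI : IsIso iX.left := (Over.forget _).map_isIso iX
  haveI : IsIso vB.hom.left := (Over.forget _).map_isIso vB.hom
  haveI : IsAffine (X ⊗ X).left := IsAffine.of_isIso (inv iX.left)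
  have hΨ : vB.hom ≫ GIT.psi a (𝟙 X) = pt ψ ≫ iX := by
    refine CartesianMonoidalCategory.hom_ext _ _ ?_ ?_
    · simp only [Category.assoc, GIT.psi, lift_fst, iX, MonoidalCategory.whiskerLeft_id, Category.id_comp]
      rw [hv1, ← Category.assoc, ← pt_comp, Algebra.TensorProduct.lift_comp_includeLeft]
    · simp only [Category.assoc, GIT.psi, lift_snd, iX]
      rw [hv2, ← Category.assoc, ← pt_comp]
      congr 2
      exact AlgHom.ext fun r => by simp [ψ]
  haveI : Algebra.QuasiFinite C B := by
    refine Algebra.QuasiFinite.iff_finite_comap_preimage_singleton.2 fun y => ?_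
    haveI : LocallyQuasiFinite ((pt ψ).left ≫ iX.left) := by
      rw [← Over.comp_left, ← hΨ, Over.comp_left]; infer_instance
    haveI : LocallyQuasiFinite (pt ψ).left := LocallyQuasiFinite.of_comp (pt ψ).left iX.left
    haveI : IsAffineHom (pt ψ).left := isAffineHom_of_isAffine _
    refine ((pt ψ).left.finite_preimage_singleton
      (PrimeSpectrum.comap ψ.rangeRestrict.toRingHom y)).subset fun P hP => ?_
    show PrimeSpectrum.comap ψ.toRingHom P = _
    rw [← Set.mem_singleton_iff.1 hP, ← PrimeSpectrum.comap_comp_apply]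
    rfl
  have hC : ∀ c ∈ C, δ c ∈ (Algebra.TensorProduct.map C.val (AlgHom.id k A)).range := by
    rintro _ ⟨z, rfl⟩
    induction z with
    | zero => simp
    | add p q hp hq => rw [map_add, map_add]; exact add_mem hp hq
    | tmul r r' =>
      simp only [AlgHom.toRingHom_eq_coe, RingHom.coe_coe, ψ, Algebra.TensorProduct.lift_tmul, map_mul, hinv]
      refine mul_mem ?_ ⟨⟨e r', 1 ⊗ₜ r', by simp [ψ]⟩ ⊗ₜ[k] (1 : A), rfl⟩
      rw [show δ (e₁ r) = Algebra.TensorProduct.map e₁ (AlgHom.id k A) (rho w v a r) from AlgHom.congr_fun hδ₁ r]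
      generalize rho w v a r = y
      induction y with
      | zero => simp
      | add p q hp hq => rw [map_add]; exact add_mem hp hq
      | tmul p q => exact ⟨⟨e₁ p, p ⊗ₜ 1, by simp [ψ]⟩ ⊗ₜ[k] q, rfl⟩
  have heC : ∀ r, e r ∈ C := fun r => ⟨1 ⊗ₜ r, by simp [ψ]⟩
  have hint : Algebra.IsIntegral C B := by
    refine isIntegral_of_isClosed hβ h1 C hC e heC hinv (fun b hb => hfix b hb) fun m hm => ?_
    let j : integralClosure C B →ₐ[k] B := (integralClosure C B).val.restrictScalars k
    obtain ⟨ψ', hψ'⟩ := exists_factor ψ j Subtype.val_injective (fun z =>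
      ⟨algebraMap C (integralClosure C B) ⟨ψ z, z, rfl⟩, rfl⟩)
    let θ : sp k (integralClosure C B) ⟶ X ⊗ X := pt ψ' ≫ iX
    letI : Field (R ⧸ m.asIdeal) := @Ideal.Quotient.field R _ m.asIdeal hm
    let K := AlgebraicClosure (R ⧸ m.asIdeal)
    let g : R →ₐ[k] K := (IsScalarTower.toAlgHom k (R ⧸ m.asIdeal) K).comp (Ideal.Quotient.mkₐ k m.asIdeal)
    haveI : Module.Finite k (R ⧸ m.asIdeal) := finite_of_finite_type_of_isJacobsonRing k (R ⧸ m.asIdeal)
    haveI : Algebra.IsIntegral k K := Algebra.IsIntegral.trans (R ⧸ m.asIdeal)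
    let f : sp k K ⟶ X := pt g ≫ v.hom
    have hf : ∀ t, f.left t = v.hom.left m := fun t => by
      show v.hom.left (PrimeSpectrum.comap g.toRingHom t) = v.hom.left m
      congr 1
      refine PrimeSpectrum.ext (hm.eq_of_le (Ideal.IsPrime.ne_top inferInstance) fun r hr => ?_).symm
      show algebraMap _ K (Ideal.Quotient.mk m.asIdeal r) ∈ t.asIdeal
      rw [Ideal.Quotient.eq_zero_iff_mem.2 hr, map_zero]
      exact zero_mem _
    have hp := isProper_psi_geom a hcl (Ω := K) (sp k K).hom f
    haveI : IsIntegralHom (sp k K).hom := by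
      rw [show (sp k K).hom = Spec.map (CommRingCat.ofHom (algebraMap k K)) from rfl, IsIntegralHom.SpecMap_iff]
      exact algebraMap_isIntegral_iff.2 inferInstance
    haveI : UniversallyClosed f.left := by
      haveI : UniversallyClosed (f.left ≫ X.hom) := by rw [Over.w f]; infer_instance
      haveI : IsAffineHom X.hom := isAffineHom_of_isAffine _
      exact UniversallyClosed.of_comp_of_isSeparated _ X.hom
    let h₀ : G ⊗ sp k K ⟶ sp k B := (G ◁ f) ≫ vB.inv
    have hrange : Set.range h₀.left = PrimeSpectrum.comap e.toRingHom ⁻¹' {m} := by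
      have hcomm : ∀ P, (snd G X).left (vB.hom.left P) = v.hom.left (PrimeSpectrum.comap e.toRingHom P) := fun P => by
        rw [← Scheme.Hom.comp_apply, ← Over.comp_left, hv2]
        rfl
      refine Set.Subset.antisymm ?_ fun P hP => ?_
      · rintro _ ⟨q, rfl⟩
        refine v.hom.left.isOpenEmbedding.injective ?_
        rw [← hcomm, ← Scheme.Hom.comp_apply h₀.left, ← Over.comp_left,
          show h₀ ≫ vB.hom = G ◁ f by simp [h₀], ← Scheme.Hom.comp_apply, ← Over.comp_left, whiskerLeft_snd,
          Over.comp_left, Scheme.Hom.comp_apply]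
        exact hf _
      · obtain ⟨t⟩ : Nonempty (Spec (CommRingCat.of K)) := inferInstance
        obtain ⟨q, hq⟩ := exists_whiskerLeft_preimage (G := G) f (vB.hom.left P) t (by
          rw [hcomm, Set.mem_singleton_iff.1 hP]; exact (hf t).symm)
        refine ⟨q, vB.hom.left.isOpenEmbedding.injective ?_⟩
        rw [← Scheme.Hom.comp_apply h₀.left, ← Over.comp_left, show h₀ ≫ vB.hom = G ◁ f by simp [h₀]]
        exact hq
    refine ⟨?_, ?_⟩
    · obtain ⟨t⟩ : Nonempty (Spec (CommRingCat.of K)) := inferInstance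
      exact ⟨_, hrange.subset ⟨(lift (1 : sp k K ⟶ G) (𝟙 _)).left t, rfl⟩⟩
    have hθ : (h₀ ≫ pt (R := k) (B := integralClosure C B) (K := B) j) ≫ θ = GIT.psi a f ≫ (X ◁ f) := by
      simp only [θ, Category.assoc]
      rw [← Category.assoc (pt (R := k) (B := integralClosure C B) (K := B) j), ← pt_comp, hψ', ← hΨ]
      simp only [h₀, Category.assoc, Iso.inv_hom_id_assoc]
      exact Over.OverMorphism.ext (isPullback_psi a f).w
    haveI : UniversallyClosed (X ◁ f).left :=
      MorphismProperty.of_isPullback (P := @UniversallyClosed)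
        (Groth.Agent.FinHom.isPullback_whiskerLeft X f).flip inferInstance
    haveI : IsProper (GIT.psi a f).left := hp
    haveI : UniversallyClosed ((h₀ ≫ pt (R := k) (B := integralClosure C B) (K := B) j).left ≫ θ.left) := by
      rw [← Over.comp_left, hθ, Over.comp_left]; infer_instance
    haveI : IsAffineHom θ.left := isAffineHom_of_isAffine _
    haveI : UniversallyClosed (h₀ ≫ pt (R := k) (B := integralClosure C B) (K := B) j).left := UniversallyClosed.of_comp_of_isSeparated _ θ.left
    have h2 := (h₀ ≫ pt (R := k) (B := integralClosure C B) (K := B) j).left.isClosedMap.isClosed_range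
    rw [← hrange, ← Set.range_comp]
    exact h2
  haveI := hint
  haveI : Module.Finite C B := Algebra.IsIntegral.finite
  have hfin : ψ.toRingHom.Finite := by
    have h : ψ.toRingHom = (algebraMap C B).comp ψ.rangeRestrict.toRingHom := rfl
    rw [h]
    exact RingHom.Finite.comp (RingHom.finite_algebraMap.2 ‹_›)
      (RingHom.Finite.of_surjective _ ψ.rangeRestrict_surjective)
  haveI : IsFinite (pt ψ).left := (IsFinite.SpecMap_iff _).2 hfin
  haveI : IsProper (vB.hom.left ≫ (GIT.psi a (𝟙 X)).left) := by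
    rw [← Over.comp_left, hΨ, Over.comp_left]; infer_instance
  exact (MorphismProperty.cancel_left_of_respectsIso @IsProper vB.hom.left _).1 inferInstance

end GITAffLib
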