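import Groth.Agent.GITAffLib.Geometric
import Groth.Agent.NeutralSchLib.ActionBC
import Groth.Agent.OrbitLib.Psi

/-!
# Base changes of `Ψ`, quasi-finiteness, properness on geometric points
-/

set_option autoImplicit false
set_option backward.isDefEq.respectTransparency false
set_option synthInstance.maxHeartbeats 400000
set_option maxHeartbeats 1000000
set_option linter.style.haveILetI false

universe u

noncomputable section

open CategoryTheory CategoryTheory.Limits MonoidalCategory CartesianMonoidalCategory AlgebraicGeometry Topology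
open scoped MonObj

namespace GITAffLib

section General

variable {S : Scheme.{u}} {G X : Over S} [GrpObj G]

theorem psi_snd {T : Over S} (a : AlgGrp.Action G X) (f : T ⟶ X) : GIT.psi a f ≫ snd X T = snd G T := by
  rw [GIT.psi, lift_snd]

theorem isPullback_psi {T : Over S} (a : AlgGrp.Action G X) (f : T ⟶ X) :
    IsPullback (G ◁ f).left (GIT.psi a f).left (GIT.psi a (𝟙 X)).left (X ◁ f).left := by
  have h1 : IsPullback (X ◁ f).left (snd X T).left (snd X X).left f.left := by
    rw [Over.snd_left, Over.snd_left]; exact Groth.Agent.FinHom.isPullback_whiskerLeft X f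
  have h2 : IsPullback (G ◁ f).left (snd G T).left (snd G X).left f.left := by
    rw [Over.snd_left, Over.snd_left]; exact Groth.Agent.FinHom.isPullback_whiskerLeft G f
  refine IsPullback.of_bot ?_ ?_ h1
  · rw [← Over.comp_left, ← Over.comp_left, psi_snd, psi_snd]
    exact h2
  · rw [← Over.comp_left, ← Over.comp_left]
    congr 1
    refine CartesianMonoidalCategory.hom_ext _ _ ?_ ?_ <;> simp [GIT.psi]

/-- Finite stabilisers: `Ψ` is quasi-finite. -/
theorem locallyQuasiFinite_psi (a : AlgGrp.Action G X) [LocallyOfFiniteType (GIT.psi a (𝟙 X)).left]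
    [QuasiCompact (GIT.psi a (𝟙 X)).left]
    (hs : LocallyQuasiFinite (pullback.snd (GIT.psi a (𝟙 X)).left (lift (𝟙 X) (𝟙 X)).left)) :
    LocallyQuasiFinite (GIT.psi a (𝟙 X)).left := by
  let Ψ := (GIT.psi a (𝟙 X)).left
  let W : Over S := Over.mk (pullback.fst Ψ Ψ ≫ (G ⊗ X).hom)
  let r₁ : W ⟶ G ⊗ X := Over.homMk (pullback.fst Ψ Ψ) rfl
  let r₂ : W ⟶ G ⊗ X := Over.homMk (pullback.snd Ψ Ψ) (by
    show pullback.snd Ψ Ψ ≫ (G ⊗ X).hom = pullback.fst Ψ Ψ ≫ (G ⊗ X).hom
    have e : Ψ ≫ (X ⊗ X).hom = (G ⊗ X).hom := Over.w _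
    rw [← e, pullback.condition_assoc])
  have hr : r₁ ≫ GIT.psi a (𝟙 X) = r₂ ≫ GIT.psi a (𝟙 X) := Over.OverMorphism.ext pullback.condition
  have hr' : (∀ r : W ⟶ G ⊗ X, r ≫ GIT.psi a (𝟙 X) = lift (r ≫ a.act) (r ≫ snd G X)) := fun r => by
    refine CartesianMonoidalCategory.hom_ext _ _ ?_ ?_ <;> simp [GIT.psi]
  rw [hr', hr'] at hr
  have hx : r₁ ≫ snd G X = r₂ ≫ snd G X := by simpa using congrArg (· ≫ snd X X) hr
  have ha : r₁ ≫ a.act = r₂ ≫ a.act := by simpa using congrArg (· ≫ fst X X) hr
  let x := r₁ ≫ snd G X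
  let g₁ := r₁ ≫ fst G X
  let g₂ := r₂ ≫ fst G X
  have el : ∀ r : W ⟶ G ⊗ X, r = lift (r ≫ fst G X) (r ≫ snd G X) := fun r => by
    refine CartesianMonoidalCategory.hom_ext _ _ ?_ ?_ <;> simp
  have ha' : lift g₂ x ≫ a.act = lift g₁ x ≫ a.act := by
    simp only [g₁, g₂, x]
    rw [← el r₁, hx, ← el r₂, ha]
  let s : W ⟶ G ⊗ X := lift (g₁⁻¹ * g₂) x
  have hs' : s ≫ GIT.psi a (𝟙 X) = x ≫ lift (𝟙 X) (𝟙 X) := by
    rw [hr']
    refine CartesianMonoidalCategory.hom_ext _ _ ?_ ?_
    · simp only [lift_fst, Category.assoc, s, Category.comp_id]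
      rw [lift_mul_act, ha', ← lift_mul_act, inv_mul_cancel, lift_one_act]
    · simp [s]
  let n : W.left ⟶ pullback Ψ (lift (𝟙 X) (𝟙 X)).left := pullback.lift s.left x.left (by
    rw [← Over.comp_left, ← Over.comp_left, hs'])
  let m : W.left ⟶ pullback (snd G X).left (pullback.snd Ψ (lift (𝟙 X) (𝟙 X)).left) :=
    pullback.lift r₁.left n (by rw [pullback.lift_snd, ← Over.comp_left])
  have hr₂ : r₂ = lift ((r₁ ≫ fst G X) * (s ≫ fst G X)) (r₁ ≫ snd G X) := by
    conv_lhs => rw [el r₂]
    simp [s, g₁, g₂, x, hx]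
  haveI : Mono m := by
    refine ⟨fun {U} u v huv => ?_⟩
    have e1 : u ≫ r₁.left = v ≫ r₁.left := by
      simpa [m] using congrArg (· ≫ pullback.fst _ _) huv
    have e2 : u ≫ s.left = v ≫ s.left := by
      simpa [m, n] using congrArg (· ≫ pullback.snd _ _ ≫ pullback.fst _ _) huv
    let U' : Over S := Over.mk (u ≫ W.hom)
    let u' : U' ⟶ W := Over.homMk u rfl
    let v' : U' ⟶ W := Over.homMk v (by
      show v ≫ r₁.left ≫ (G ⊗ X).hom = u ≫ r₁.left ≫ (G ⊗ X).hom
      rw [← Category.assoc, ← e1, Category.assoc])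
    have e3 : u' ≫ r₁ = v' ≫ r₁ := Over.OverMorphism.ext e1
    have e4 : u' ≫ s = v' ≫ s := Over.OverMorphism.ext e2
    have e5 : u' ≫ r₂ = v' ≫ r₂ := by
      simp only [hr₂, comp_lift, MonObj.comp_mul, reassoc_of% e3, reassoc_of% e4]
    exact pullback.hom_ext e1 (congrArg CommaMorphism.left e5)
  haveI : QuasiCompact (pullback.snd Ψ (lift (𝟙 X) (𝟙 X)).left) := MorphismProperty.pullback_snd _ _ inferInstance
  haveI : LocallyQuasiFinite (pullback.snd Ψ (lift (𝟙 X) (𝟙 X)).left) := hs
  haveI : QuasiCompact (pullback.fst (snd G X).left (pullback.snd Ψ (lift (𝟙 X) (𝟙 X)).left)) :=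
    MorphismProperty.pullback_fst _ _ inferInstance
  haveI : LocallyQuasiFinite (pullback.fst (snd G X).left (pullback.snd Ψ (lift (𝟙 X) (𝟙 X)).left)) :=
    MorphismProperty.pullback_fst _ _ inferInstance
  refine LocallyQuasiFinite.of_finite_preimage_singleton _ fun z => ?_
  rcases (Ψ ⁻¹' {z}).eq_empty_or_nonempty with he | ⟨p, hp⟩
  · rw [he]; exact Set.finite_empty
  have hfin : (pullback.fst Ψ Ψ ⁻¹' {p}).Finite := by
    have e : pullback.fst Ψ Ψ = m ≫ pullback.fst _ _ := (pullback.lift_fst _ _ _).symm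
    rw [e, Scheme.Hom.comp_base, TopCat.coe_comp, Set.preimage_comp]
    exact ((pullback.fst (snd G X).left (pullback.snd Ψ (lift (𝟙 X) (𝟙 X)).left)).finite_preimage_singleton p).preimage
      (injective_of_mono m).injOn
  refine (hfin.image (pullback.snd Ψ Ψ)).subset fun q hq => ?_
  obtain ⟨t, ht₁, ht₂⟩ := Scheme.Pullback.exists_preimage_pullback (f := Ψ) (g := Ψ) p q
    ((Set.mem_singleton_iff.1 hp).trans (Set.mem_singleton_iff.1 hq).symm)
  exact ⟨t, ht₁, ht₂⟩

end General

variable {k : Type u} [Field k] {G X : Over (Spec (CommRingCat.of k))} [GrpObj G]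

/-- Closed orbits and quasi-finite `Ψ`: orbit maps of geometric points are proper. -/
theorem isProper_psi_geom [LocallyOfFiniteType G.hom] [QuasiCompact G.hom] [LocallyOfFiniteType X.hom]
    (a : AlgGrp.Action G X) (hcl : GIT.IsClosedAction a) [LocallyQuasiFinite (GIT.psi a (𝟙 X)).left]
    {Ω : Type u} [Field Ω] [IsAlgClosed Ω] (t : Spec (CommRingCat.of Ω) ⟶ Spec (CommRingCat.of k))
    (f : Over.mk t ⟶ X) : IsProper (GIT.psi a f).left := by
  let F := Over.pullback t
  let a' := Groth.Agent.NeutralSch.actBC t a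
  let x : 𝟙_ (Over (Spec (CommRingCat.of Ω))) ⟶ Red.bc t X := Over.homMk (pullback.lift f.left (𝟙 _) (by
    rw [Category.id_comp]; exact Over.w f)) (pullback.lift_snd _ _ _)
  haveI : LocallyOfFiniteType (Red.bc t G).hom := MorphismProperty.pullback_snd _ _ inferInstance
  haveI : QuasiCompact (Red.bc t G).hom := MorphismProperty.pullback_snd _ _ inferInstance
  haveI : LocallyOfFiniteType (Red.bc t X).hom := MorphismProperty.pullback_snd _ _ inferInstance
  have e : (GIT.psi a f).left = (a'.orbitMap x).left := by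
    let m : Red.bc t G ⟶ F.obj (G ⊗ X) :=
      lift (𝟙 _) (toUnit _ ≫ x) ≫ Functor.LaxMonoidal.μ F G X
    have h1 : m ≫ F.map (fst G X) = 𝟙 _ := by simp [m, F, Red.bc]
    have h2 : m ≫ F.map (snd G X) = toUnit _ ≫ x := by simp [m, F, Red.bc]
    have ho : a'.orbitMap x = m ≫ F.map a.act := by
      simp only [AlgGrp.Action.orbitMap, a', Groth.Agent.NeutralSch.actBC, m, Category.assoc]
      rfl
    have hm : m.left ≫ pullback.fst (G ⊗ X).hom t = (G ◁ f).left := by
      have e1 := congrArg (fun n => n.left ≫ pullback.fst G.hom t) h1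
      have e2 := congrArg (fun n => n.left ≫ pullback.fst X.hom t) h2
      simp only [F, Over.comp_left, Over.pullback_map_left, Category.assoc, pullback.lift_fst, Over.id_left] at e1 e2
      apply pullback.hom_ext
      · simpa using e1
      · have e3 : x.left ≫ pullback.fst X.hom t = f.left := pullback.lift_fst _ _ _
        simpa [Over.whiskerLeft_left_snd, e3] using e2
    apply pullback.hom_ext
    · rw [ho, Over.comp_left, Category.assoc]
      show (GIT.psi a f).left ≫ (fst X (Over.mk t)).left =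
        m.left ≫ (F.map a.act).left ≫ pullback.fst X.hom t
      rw [← Over.comp_left, GIT.psi, lift_fst, Over.comp_left]
      simp only [F, Over.pullback_map_left, pullback.lift_fst]
      rw [← Category.assoc, hm]
    · show (GIT.psi a f).left ≫ (snd X (Over.mk t)).left = (a'.orbitMap x).left ≫ (Red.bc t X).hom
      rw [← Over.comp_left, psi_snd, Over.w]
      rfl
  haveI hqf : LocallyQuasiFinite (GIT.psi a f).left :=
    MorphismProperty.of_isPullback (P := @LocallyQuasiFinite) (isPullback_psi a f) inferInstance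
  rw [e] at hqf ⊢
  haveI : LocallyOfFiniteType ((a'.orbitMap x).left ≫ (Red.bc t X).hom) := by rw [Over.w]; infer_instance
  haveI : LocallyOfFiniteType (a'.orbitMap x).left := locallyOfFiniteType_of_comp _ (Red.bc t X).hom
  haveI : IsLocallyNoetherian (Red.bc t X).left := LocallyOfFiniteType.isLocallyNoetherian (Red.bc t X).hom
  haveI : CompactSpace (Red.bc t G).left := QuasiCompact.compactSpace_of_compactSpace (Red.bc t G).hom
  haveI : QuasiCompact (a'.orbitMap x).left := quasiCompact_of_compactSpace _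
  refine OrbitLib.isProper_orbitMap a' x ?_ ?_
  · have h := hcl Ω (Over.mk t) (Iso.refl _) f
    rw [e] at h
    exact h
  · have hp : IsPullback (pullback.fst (a'.orbitMap x) x).left (pullback.snd (a'.orbitMap x) x).left
        (a'.orbitMap x).left x.left := (IsPullback.of_hasPullback _ _).map (Over.forget _)
    haveI : LocallyQuasiFinite (pullback.snd (a'.orbitMap x) x).left := MorphismProperty.of_isPullback hp hqf
    haveI : LocallyOfFiniteType (pullback.snd (a'.orbitMap x) x).left :=
      MorphismProperty.of_isPullback hp inferInstance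
    haveI : QuasiCompact (pullback.snd (a'.orbitMap x) x).left := MorphismProperty.of_isPullback hp inferInstance
    let g : (pullback (a'.orbitMap x) x).left ⟶ Spec (CommRingCat.of Ω) := (pullback.snd (a'.orbitMap x) x).left
    haveI : LocallyQuasiFinite g := ‹LocallyQuasiFinite (pullback.snd (a'.orbitMap x) x).left›
    haveI : LocallyOfFiniteType g := ‹LocallyOfFiniteType (pullback.snd (a'.orbitMap x) x).left›
    haveI : QuasiCompact g := ‹QuasiCompact (pullback.snd (a'.orbitMap x) x).left›
    haveI : IsFinite g := IsFinite.of_locallyQuasiFinite g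
    have : (pullback (a'.orbitMap x) x).hom = g := by
      rw [← Over.w (pullback.snd (a'.orbitMap x) x)]
      exact Category.comp_id _
    rw [this]
    infer_instance

end GITAffLib
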