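import Groth.Agent.GITAffLib.ProperAff
import Groth.Agent.GITQuotLib.Univ
import Groth.Agent.GITAffLib.NormalQuot

/-!
# Affine geometric quotients with finite stabilisers have proper actions
-/

set_option autoImplicit false
set_option backward.isDefEq.respectTransparency false
set_option synthInstance.maxHeartbeats 400000
set_option maxHeartbeats 1000000
set_option linter.style.haveILetI false

universe u

noncomputable section

open CategoryTheory CategoryTheory.Limits MonoidalCategory CartesianMonoidalCategory AlgebraicGeometry Topology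
open CoactBr
open scoped MonObj

namespace GITAffLib

variable {k : Type u} [Field k] {A : Type u} [CommRing A] [HopfAlgebra k A]
  {G X Y : Over (Spec (CommRingCat.of k))} [GrpObj G] {w : sp k A ⟶ G} [IsMonHom w] [IsIso w]
  {β : A →ₗ[k] k}

omit [IsMonHom w] in
include w in
theorem smooth_of_smooth_hom (h : Smooth G.hom) : Algebra.Smooth k A := by
  haveI := h
  haveI : IsIso w.left := (Over.forget _).map_isIso w
  have h2 : Smooth (Spec.map (CommRingCat.ofHom (algebraMap k A))) := by
    rw [show Spec.map (CommRingCat.ofHom (algebraMap k A)) = w.left ≫ G.hom from (Over.w w).symm]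
    infer_instance
  exact RingHom.smooth_algebraMap.1 ((HasRingHomProperty.Spec_iff (P := @Smooth)).1 h2)

theorem isClosedAction_restrict {a : AlgGrp.Action G X} (hcl : GIT.IsClosedAction a)
    {X' : Over (Spec (CommRingCat.of k))} (pr : X' ⟶ X) [IsOpenImmersion pr.left] (a' : AlgGrp.Action G X')
    (he : a'.act ≫ pr = (G ◁ pr) ≫ a.act) : GIT.IsClosedAction a' := by
  intro Ω _ _ T eT f
  have e : GIT.psi a' f ≫ (pr ▷ T) = GIT.psi a (f ≫ pr) := by
    refine CartesianMonoidalCategory.hom_ext _ _ ?_ ?_
    · simp [GIT.psi, he]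
    · simp [GIT.psi]
  have hinj : Function.Injective (pr ▷ T).left := by
    haveI : IsOpenImmersion (pr ▷ T).left := MorphismProperty.of_isPullback
      ((isPullback_whiskerRight pr T).map (Over.forget _)) ‹IsOpenImmersion pr.left›
    exact (pr ▷ T).left.isOpenEmbedding.injective
  have h := (hcl Ω T eT (f ≫ pr)).preimage (pr ▷ T).left.continuous
  rw [← e, Over.comp_left, Scheme.Hom.comp_base, TopCat.coe_comp, Set.range_comp] at h
  erw [Set.preimage_image_eq _ hinj] at h
  exact h

include w in
/-- A closed action with quasi-finite `Ψ`, affine over a separated base by an invariant map, is proper. -/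
theorem isProper_psi_of_affineHom (hβ : ComodLib.IsInvariant β) (h1 : β 1 = 1) [Algebra.Smooth k A]
    [LocallyOfFiniteType X.hom] [IsSeparated Y.hom]
    (a : AlgGrp.Action G X) [LocallyQuasiFinite (GIT.psi a (𝟙 X)).left] (φ : X ⟶ Y)
    (hinv : GIT.IsInvariant a φ) (hcl : GIT.IsClosedAction a) [IsAffineHom φ.left] :
    IsProper (GIT.psi a (𝟙 X)).left := by
  have key : ∀ V : Y.left.affineOpens, IsProper (GIT.psi a
      (Over.homMk (φ.left ⁻¹ᵁ V.1).ι : Over.mk ((φ.left ⁻¹ᵁ V.1).ι ≫ X.hom) ⟶ X)).left := by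
    intro V
    have sq₀ := GITQuotLib.isPullback_restrict φ V.1
    set X' := Over.mk ((φ.left ⁻¹ᵁ V.1).ι ≫ X.hom)
    set pr : X' ⟶ X := Over.homMk (φ.left ⁻¹ᵁ V.1).ι
    obtain ⟨Y', φ', g, sq⟩ : ∃ (Y' : Over (Spec (CommRingCat.of k))) (φ' : X' ⟶ Y') (g : Y' ⟶ Y),
        IsPullback pr φ' φ g := ⟨_, _, _, sq₀⟩
    haveI : IsOpenImmersion pr.left := inferInstanceAs (IsOpenImmersion (φ.left ⁻¹ᵁ V.1).ι)
    haveI : IsAffine X'.left := (V.2.preimage φ.left : _)
    haveI : LocallyOfFiniteType X'.hom :=
      inferInstanceAs (LocallyOfFiniteType ((φ.left ⁻¹ᵁ V.1).ι ≫ X.hom))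
    obtain ⟨a', he, hi⟩ := GITQuotLib.exists_action hinv sq
    have hcl' := isClosedAction_restrict hcl pr a' he
    haveI : LocallyQuasiFinite (GIT.psi a' (𝟙 X')).left := by
      haveI : IsOpenImmersion (G ◁ pr).left := MorphismProperty.of_isPullback
        (Groth.Agent.FinHom.isPullback_whiskerLeft G pr).flip inferInstance
      have e : GIT.psi a' (𝟙 X') ≫ (pr ⊗ₘ pr) = (G ◁ pr) ≫ GIT.psi a (𝟙 X) := by
        refine CartesianMonoidalCategory.hom_ext _ _ ?_ ?_ <;> simp [GIT.psi, he]
      haveI : LocallyQuasiFinite ((GIT.psi a' (𝟙 X')).left ≫ (pr ⊗ₘ pr).left) := by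
        rw [← Over.comp_left, e, Over.comp_left]; infer_instance
      exact LocallyQuasiFinite.of_comp _ (pr ⊗ₘ pr).left
    haveI : IsProper (GIT.psi a' (𝟙 X')).left := isProper_psi_of_affine (w := w) hβ h1 a' hcl'
    -- the factorisation through the fibre product over `Y`
    let Z := pullback φ.left (pr ≫ φ).left
    let c : (G ⊗ X').left ⟶ Z := pullback.lift (a'.act ≫ pr).left (snd G X').left (by
      rw [← Over.comp_left, ← Over.comp_left]
      congr 1
      rw [he, Category.assoc, show a.act ≫ φ = snd G X ≫ φ from hinv, whiskerLeft_snd_assoc])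
    have sqs : IsPullback pr.left φ'.left φ.left g.left := sq.map (Over.forget _)
    let κ : Z ⟶ X'.left := sqs.lift (pullback.fst _ _) (pullback.snd φ.left (pr ≫ φ).left ≫ φ'.left) (by
      rw [Category.assoc, ← sqs.w]
      exact pullback.condition)
    have hκ1 : κ ≫ pr.left = pullback.fst _ _ := sqs.lift_fst _ _ _
    have hκ2 : κ ≫ φ'.left = pullback.snd φ.left (pr ≫ φ).left ≫ φ'.left := sqs.lift_snd _ _ _
    let q : Z ⟶ (X' ⊗ X').left := pullback.lift κ (pullback.snd _ _) (by
      show κ ≫ (φ.left ⁻¹ᵁ V.1).ι ≫ X.hom = _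
      rw [← show pr.left = (φ.left ⁻¹ᵁ V.1).ι from rfl, reassoc_of% hκ1, ← Over.w φ, pullback.condition_assoc,
        Over.w (pr ≫ φ)])
    have hcq : c ≫ q = (GIT.psi a' (𝟙 X')).left := by
      apply pullback.hom_ext
      · rw [Category.assoc, pullback.lift_fst]
        show c ≫ κ = (GIT.psi a' (𝟙 X')).left ≫ (fst X' X').left
        rw [← Over.comp_left, GIT.psi, lift_fst, MonoidalCategory.whiskerLeft_id, Category.id_comp]
        refine sqs.hom_ext ?_ ?_
        · simp only [Category.assoc, hκ1]
          rw [pullback.lift_fst, Over.comp_left]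
        · simp only [Category.assoc, hκ2]
          rw [pullback.lift_snd_assoc, ← Over.comp_left, ← Over.comp_left]
          exact congrArg CommaMorphism.left hi.symm
      · rw [Category.assoc, pullback.lift_snd, pullback.lift_snd]
        show _ = (GIT.psi a' (𝟙 X')).left ≫ (snd X' X').left
        rw [← Over.comp_left, psi_snd]
    haveI : IsProper (c ≫ q) := by rw [hcq]; infer_instance
    haveI : IsSeparated q := by
      haveI : IsSeparated (q ≫ (snd X' X').left) := by
        rw [Over.snd_left, pullback.lift_snd]; infer_instance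
      exact IsSeparated.of_comp q (snd X' X').left
    haveI : IsProper c := IsProper.of_comp c q
    let ι' : Z ⟶ (X ⊗ X').left := pullback.mapDesc φ.left (pr ≫ φ).left Y.hom ≫
      (pullback.congrHom (Over.w φ) (Over.w (pr ≫ φ))).hom
    have hci : c ≫ ι' = (GIT.psi a pr).left := by
      apply pullback.hom_ext
      · show _ = (GIT.psi a pr).left ≫ (fst X X').left
        rw [← Over.comp_left, GIT.psi, lift_fst, ← he]
        simp [c, ι', pullback.mapDesc]
      · show _ = (GIT.psi a pr).left ≫ (snd X X').left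
        rw [← Over.comp_left, psi_snd]
        simp [c, ι', pullback.mapDesc]
    rw [← hci]
    infer_instance
  let O : Y.left.affineOpens → (X ⊗ X).left.Opens := fun V => (snd X X).left ⁻¹ᵁ φ.left ⁻¹ᵁ V.1
  refine (IsZariskiLocalAtTarget.iff_of_iSup_eq_top (P := @IsProper) O ?_).2 fun V => ?_
  · simp only [O, ← Scheme.Hom.preimage_iSup, iSup_affineOpens_eq_top, Scheme.Hom.preimage_top]
  haveI := key V
  set pr : Over.mk ((φ.left ⁻¹ᵁ V.1).ι ≫ X.hom) ⟶ X := Over.homMk (φ.left ⁻¹ᵁ V.1).ι
  have hO : IsPullback (O V).ι ((snd X X).left ∣_ (φ.left ⁻¹ᵁ V.1)) (snd X X).left pr.left :=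
    (isPullback_morphismRestrict (snd X X).left (φ.left ⁻¹ᵁ V.1)).flip
  have hW : IsPullback (X ◁ pr).left (snd X _).left (snd X X).left pr.left := by
    rw [Over.snd_left, Over.snd_left]; exact Groth.Agent.FinHom.isPullback_whiskerLeft X pr
  let e := hO.isoIsPullback _ _ hW
  have he : e.hom ≫ (X ◁ pr).left = (O V).ι := hO.isoIsPullback_hom_fst _ _ hW
  have hbot : IsPullback (X ◁ pr).left e.inv (𝟙 _) (O V).ι :=
    IsPullback.of_vert_isIso ⟨by rw [Category.comp_id, ← he, Iso.inv_hom_id_assoc]⟩
  have hbig := (isPullback_psi a pr).paste_vert hbot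
  rw [Category.comp_id] at hbig
  have hres := isPullback_morphismRestrict (GIT.psi a (𝟙 X)).left (O V)
  have : (GIT.psi a (𝟙 X)).left ∣_ (O V) =
      (hres.flip.isoIsPullback _ _ hbig).hom ≫ (GIT.psi a pr).left ≫ e.inv :=
    (hres.flip.isoIsPullback_hom_snd _ _ hbig).symm
  rw [this]
  infer_instance


include w in
theorem isProper_psi_of_geomQuot (hβ : ComodLib.IsInvariant β) (h1 : β 1 = 1) [Algebra.Smooth k A]
    [LocallyOfFiniteType X.hom] [QuasiCompact X.hom] [IsSeparated X.hom] [IsSeparated Y.hom]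
    (a : AlgGrp.Action G X) (hst : LocallyQuasiFinite (pullback.snd (GIT.psi a (𝟙 X)).left (lift (𝟙 X) (𝟙 X)).left))
    (φ : X ⟶ Y) (h : GIT.IsGeomQuot a φ) [IsAffineHom φ.left] : IsProper (GIT.psi a (𝟙 X)).left := by
  haveI : IsAffine G.left := by
    haveI : IsIso w.left := (Over.forget _).map_isIso w
    exact IsAffine.of_isIso (inv w.left)
  haveI : LocallyOfFiniteType G.hom := by
    haveI : IsIso (inv w).left := (Over.forget _).map_isIso (inv w)
    haveI : LocallyOfFiniteType (sp k A).hom :=
      (HasRingHomProperty.Spec_iff (P := @LocallyOfFiniteType)).2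
        (RingHom.finiteType_algebraMap.2 Algebra.FiniteType.of_finitePresentation)
    rw [← Over.w (inv w)]; infer_instance
  haveI : QuasiCompact G.hom := inferInstance
  have hs : ∀ Z : Over (Spec (CommRingCat.of k)), (snd G Z).left = pullback.snd G.hom Z.hom := fun _ => rfl
  haveI : LocallyOfFiniteType (GIT.psi a (𝟙 X)).left := by
    haveI : LocallyOfFiniteType ((GIT.psi a (𝟙 X)).left ≫ (snd X X).left) := by
      rw [← Over.comp_left, psi_snd, hs]; infer_instance
    exact locallyOfFiniteType_of_comp _ (snd X X).left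
  haveI : QuasiCompact (GIT.psi a (𝟙 X)).left := by
    haveI : QuasiCompact ((GIT.psi a (𝟙 X)).left ≫ (snd X X).left) := by
      rw [← Over.comp_left, psi_snd, hs]; infer_instance
    haveI : QuasiSeparated (snd X X).left := by rw [Over.snd_left]; infer_instance
    exact QuasiCompact.of_comp _ (snd X X).left
  haveI : LocallyQuasiFinite (GIT.psi a (𝟙 X)).left := locallyQuasiFinite_psi a hst
  exact isProper_psi_of_affineHom (w := w) hβ h1 a φ h.inv (isClosedAction_of_isGeomQuot h)

end GITAffLib
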