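import Groth.Agent.GITAffLib.NormalQuot
import Groth.Prelude.Def_GLinSh

/-!
# Finiteness of stabilisers through geometric points
-/

set_option autoImplicit false
set_option backward.isDefEq.respectTransparency false
set_option synthInstance.maxHeartbeats 400000
set_option maxHeartbeats 1000000

universe u

noncomputable section

open CategoryTheory CategoryTheory.Limits MonoidalCategory CartesianMonoidalCategory AlgebraicGeometry Topology
open scoped MonObj

namespace GITAffLib

variable {S : Scheme.{u}} {G X T : Over S} [GrpObj G]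

/-- The points of `G` over `T` fixing `f`. -/
def FixPts (a : AlgGrp.Action G X) (f : T ⟶ X) : Type u := {g : T ⟶ G // lift g f ≫ a.act = f}

theorem lift_psi (a : AlgGrp.Action G X) (f : T ⟶ X) (g : T ⟶ G) :
    lift g (𝟙 T) ≫ GIT.psi a f = lift (lift g f ≫ a.act) (𝟙 T) := by
  refine CartesianMonoidalCategory.hom_ext _ _ ?_ ?_ <;> simp [GIT.psi]

theorem isFinite_iff_finite {P B : Scheme.{u}} {Ω : Type u} [Field Ω] [IsAlgClosed Ω]
    (e : B ≅ Spec (CommRingCat.of Ω)) (g : P ⟶ B) [LocallyOfFiniteType g] [QuasiCompact g] :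
    IsFinite g ↔ Finite {p : B ⟶ P // p ≫ g = 𝟙 B} := by
  let g' := g ≫ e.hom
  have e1 : Finite {p : B ⟶ P // p ≫ g = 𝟙 B} ↔ (closedPoints P).Finite := by
    rw [Set.finite_coe_iff.symm]
    let E : {p : B ⟶ P // p ≫ g = 𝟙 B} ≃ {p : Spec (CommRingCat.of Ω) ⟶ P // p ≫ g' = 𝟙 _} :=
      { toFun := fun p => ⟨e.inv ≫ p.1, by simp [g', reassoc_of% p.2]⟩
        invFun := fun p => ⟨e.hom ≫ p.1, by
          rw [← cancel_mono e.hom, Category.assoc, Category.assoc, Category.id_comp]
          exact (congrArg (e.hom ≫ ·) p.2).trans (Category.comp_id _)⟩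
        left_inv := fun p => Subtype.ext (by simp)
        right_inv := fun p => Subtype.ext (by simp) }
    exact (E.trans (pointEquivClosedPoint g')).finite_iff
  rw [e1]
  haveI : IsFinite g' ↔ IsFinite g := MorphismProperty.cancel_right_of_respectsIso @IsFinite g e.hom
  rw [← this]
  haveI : JacobsonSpace P := LocallyOfFiniteType.jacobsonSpace g'
  constructor
  · intro h
    haveI := h
    refine ((g'.finite_preimage (s := (Set.univ : Set (Spec (CommRingCat.of Ω)))) Set.finite_univ)).subset ?_
    exact fun x _ => Set.mem_univ _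
  · intro h
    have hcl : IsClosed (closedPoints P) := by
      rw [← Set.biUnion_of_singleton (closedPoints P)]
      exact h.isClosed_biUnion fun x hx => hx
    have huniv : closedPoints P = Set.univ := by
      rw [← hcl.closure_eq, closure_closedPoints]
    haveI : LocallyQuasiFinite g' :=
      LocallyQuasiFinite.of_finite_preimage_singleton g' fun x =>
        h.subset fun z _ => huniv.symm ▸ Set.mem_univ z
    exact IsFinite.of_locallyQuasiFinite g'

theorem finite_stab_iff (a : AlgGrp.Action G X) [LocallyOfFiniteType G.hom] [QuasiCompact G.hom]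
    [QuasiSeparated X.hom] {Ω : Type u} [Field Ω] [IsAlgClosed Ω] (e : T.left ≅ Spec (CommRingCat.of Ω))
    (f : T ⟶ X) : IsFinite (GLinSh.stabTo a f) ↔ Finite (FixPts a f) := by
  haveI : IsAffine T.left := IsAffine.of_isIso e.hom
  haveI h1 : LocallyOfFiniteType (snd G T).left := by
    rw [Over.snd_left]; exact MorphismProperty.pullback_snd _ _ inferInstance
  haveI h2 : QuasiCompact (snd G T).left := by
    rw [Over.snd_left]; exact MorphismProperty.pullback_snd _ _ inferInstance
  haveI : QuasiSeparated (snd X T).left := by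
    rw [Over.snd_left]; exact MorphismProperty.pullback_snd _ _ inferInstance
  have hs : (GIT.psi a f).left ≫ (snd X T).left = (snd G T).left := by
    rw [← Over.comp_left, GIT.psi, lift_snd]
  haveI : LocallyOfFiniteType ((GIT.psi a f).left ≫ (snd X T).left) := by rw [hs]; exact h1
  haveI : QuasiCompact ((GIT.psi a f).left ≫ (snd X T).left) := by rw [hs]; exact h2
  haveI : LocallyOfFiniteType (GIT.psi a f).left := locallyOfFiniteType_of_comp _ (snd X T).left
  haveI : QuasiCompact (GIT.psi a f).left := QuasiCompact.of_comp _ (snd X T).left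
  haveI : LocallyOfFiniteType (GLinSh.stabTo a f) := MorphismProperty.pullback_snd _ _ inferInstance
  haveI : QuasiCompact (GLinSh.stabTo a f) := MorphismProperty.pullback_snd _ _ inferInstance
  rw [isFinite_iff_finite e (GLinSh.stabTo a f)]
  let toOver : {p : T.left ⟶ GLinSh.stab a f // p ≫ GLinSh.stabTo a f = 𝟙 T.left} → (T ⟶ G ⊗ T) := fun p =>
    Over.homMk (p.1 ≫ pullback.fst _ _) (by
      rw [← Over.w (GIT.psi a f), Category.assoc, pullback.condition_assoc,
        show (lift f (𝟙 T)).left ≫ (X ⊗ T).hom = T.hom from Over.w _]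
      exact (Category.assoc _ _ _).symm.trans ((congrArg (· ≫ T.hom) p.2).trans (Category.id_comp _)))
  have hto : ∀ p, toOver p ≫ GIT.psi a f = lift f (𝟙 T) := fun p => Over.OverMorphism.ext (by
    show (p.1 ≫ pullback.fst _ _) ≫ _ = _
    rw [Category.assoc, pullback.condition]
    exact (Category.assoc _ _ _).symm.trans ((congrArg (· ≫ _) p.2).trans (Category.id_comp _)))
  have hsnd : ∀ p, toOver p ≫ snd G T = 𝟙 T := fun p => by
    have := congrArg (· ≫ snd X T) (hto p)
    simpa [GIT.psi] using this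
  have hlift : ∀ p, toOver p = lift (toOver p ≫ fst G T) (𝟙 T) := fun p => by
    refine CartesianMonoidalCategory.hom_ext _ _ ?_ ?_ <;> simp [hsnd p]
  let E : {p : T.left ⟶ GLinSh.stab a f // p ≫ GLinSh.stabTo a f = 𝟙 T.left} ≃ FixPts a f :=
    { toFun := fun p => ⟨toOver p ≫ fst G T, by
        have h := hto p
        rw [hlift p, lift_psi] at h
        simpa using congrArg (· ≫ fst X T) h⟩
      invFun := fun g => ⟨pullback.lift (lift g.1 (𝟙 T)).left (𝟙 T.left) (by
        rw [← Over.comp_left, lift_psi, g.2, Category.id_comp]), pullback.lift_snd _ _ _⟩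
      left_inv := fun p => Subtype.ext (by
        apply pullback.hom_ext
        · rw [pullback.lift_fst, ← hlift p]; rfl
        · rw [pullback.lift_snd]; exact p.2.symm)
      right_inv := fun g => Subtype.ext (by
        have : ∀ (m : T ⟶ G ⊗ T), m.left = (lift g.1 (𝟙 T)).left → m ≫ fst G T = g.1 := fun m hm => by
          rw [Over.OverMorphism.ext hm, lift_fst]
        exact this _ (pullback.lift_fst _ _ _)) }
  exact E.finite_iff

section Normal

variable {H N Q Y : Over S} [GrpObj H] [GrpObj N] [GrpObj Q] {i : N ⟶ H} [IsMonHom i] {q : H ⟶ Q} [IsMonHom q]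
  {a : AlgGrp.Action H X} {aN : AlgGrp.Action N X} {π : X ⟶ Y} {aQ : AlgGrp.Action Q Y}

theorem finite_fixPts_iff (haN : aN.act = (i ▷ X) ≫ a.act) (hπ : GIT.IsGeomQuot aN π) (hker : AlgGrp.IsKernel i q)
    (hq : Function.Surjective q.left) [LocallyOfFiniteType q.left] [LocallyOfFiniteType (X.hom)]
    [LocallyOfFiniteType N.hom]
    (hequiv : (q ⊗ₘ π) ≫ aQ.act = a.act ≫ π) {Ω : Type u} [Field Ω] [IsAlgClosed Ω]
    (eT : T.left ≅ Spec (CommRingCat.of Ω)) (x : T ⟶ X) (hN : Finite (FixPts aN x)) :
    Finite (FixPts aQ (x ≫ π)) ↔ Finite (FixPts a x) := by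
  have hact : ∀ g : T ⟶ H, lift (g ≫ q) (x ≫ π) ≫ aQ.act = (lift g x ≫ a.act) ≫ π := fun g => by
    rw [← lift_map_assoc, hequiv, Category.assoc]
  let F : FixPts a x → FixPts aQ (x ≫ π) := fun g => ⟨g.1 ≫ q, by rw [hact, g.2]⟩
  have hfix : ∀ g g' : T ⟶ H, lift g x ≫ a.act = lift g' x ≫ a.act → lift (g⁻¹ * g') x ≫ a.act = x := by
    intro g g' h
    rw [lift_mul_act, ← h, ← lift_mul_act, inv_mul_cancel, lift_one_act]
  constructor
  · intro hQ
    haveI := hQ
    suffices ∀ g₀, Finite {g // F g = g₀} from Finite.of_equiv _ (Equiv.sigmaFiberEquiv F)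
    intro g₀
    by_cases hne : ∃ g₁, F g₁ = g₀
    swap
    · haveI : IsEmpty {g // F g = g₀} := ⟨fun g => hne ⟨g.1, g.2⟩⟩
      infer_instance
    obtain ⟨g₁, hg₁⟩ := hne
    have hk : ∀ g : {g // F g = g₀}, ∃ n : FixPts aN x, n.1 ≫ i = g₁.1⁻¹ * g.1.1 := by
      intro g
      have e1 : (g₁.1⁻¹ * g.1.1) ≫ q = toUnit T ≫ η[Q] := by
        have e2 : g.1.1 ≫ q = g₁.1 ≫ q := congrArg Subtype.val (g.2.trans hg₁.symm)
        rw [MonObj.mul_comp, GrpObj.inv_comp, e2, inv_mul_cancel, Hom.one_def]
      refine ⟨⟨hker.lift _ _ e1, ?_⟩, hker.lift_fst _ _ e1⟩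
      rw [haN, lift_whiskerRight_assoc, hker.lift_fst]
      exact hfix _ _ (g₁.2.trans g.1.2.symm)
    choose n hn using hk
    haveI := hN
    refine Finite.of_injective n fun g g' h => ?_
    have := hn g
    rw [h, hn g'] at this
    exact Subtype.ext (Subtype.ext (mul_left_cancel this).symm)
  · intro hH
    haveI := hH
    refine Finite.of_surjective F fun g₀ => ?_
    obtain ⟨g, hg⟩ := exists_lift_point hq eT g₀.1
    have hpi : (lift g x ≫ a.act) ≫ π = x ≫ π := by rw [← hact, hg, g₀.2]
    let P : Over S := Over.mk (pullback.fst π.left π.left ≫ X.hom)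
    let Ψ : N ⊗ X ⟶ P := Over.homMk (GIT.PsiY aN π hπ.inv) (by
      show GIT.PsiY aN π hπ.inv ≫ pullback.fst π.left π.left ≫ X.hom = (N ⊗ X).hom
      rw [GIT.PsiY, pullback.lift_fst_assoc, Over.w aN.act])
    haveI : LocallyOfFiniteType (N ⊗ X).hom := by
      rw [← Over.w (snd N X), Over.snd_left]
      haveI : LocallyOfFiniteType (pullback.snd N.hom X.hom) := MorphismProperty.pullback_snd _ _ inferInstance
      infer_instance
    haveI : LocallyOfFiniteType (Ψ.left ≫ P.hom) := by rw [Over.w Ψ]; infer_instance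
    haveI : LocallyOfFiniteType Ψ.left := locallyOfFiniteType_of_comp _ P.hom
    let pt₀ : T ⟶ P := Over.homMk (pullback.lift (lift g x ≫ a.act).left x.left (by
      rw [← Over.comp_left, ← Over.comp_left, hpi])) (by
      show pullback.lift (lift g x ≫ a.act).left x.left _ ≫ pullback.fst π.left π.left ≫ X.hom = T.hom
      rw [pullback.lift_fst_assoc]
      exact Over.w (lift g x ≫ a.act))
    obtain ⟨m, hm⟩ := exists_lift_point (π := Ψ) hπ.orbit eT pt₀
    have hm1 : m ≫ aN.act = lift g x ≫ a.act := Over.OverMorphism.ext (by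
      have := congrArg (fun n => n.left ≫ pullback.fst π.left π.left) hm
      simp only [Over.comp_left, Category.assoc, Ψ, pt₀, Over.homMk_left, GIT.PsiY, pullback.lift_fst] at this
      exact this)
    have hm2 : m ≫ snd N X = x := Over.OverMorphism.ext (by
      have := congrArg (fun n => n.left ≫ pullback.snd π.left π.left) hm
      simp only [Over.comp_left, Category.assoc, Ψ, pt₀, Over.homMk_left, GIT.PsiY, pullback.lift_snd] at this
      exact this)
    have hmn : lift ((m ≫ fst N X) ≫ i) x ≫ a.act = lift g x ≫ a.act := by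
      rw [← lift_whiskerRight_assoc, ← haN, ← hm1, ← hm2]
      simp
    refine ⟨⟨_, hfix _ _ hmn⟩, Subtype.ext ?_⟩
    show ((((m ≫ fst N X) ≫ i)⁻¹ * g) ≫ q) = g₀.1
    rw [MonObj.mul_comp, GrpObj.inv_comp, Category.assoc, hker.w, ← Category.assoc, comp_toUnit, ← Hom.one_def,
      inv_one, one_mul, hg]

end Normal

end GITAffLib
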